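import Cfsg.Agent.N2.Cl.Ext.Eight
import Cfsg.Agent.N2.Cl.Cyc.Vec
import Cfsg.Agent.SB.C2.Main

/-!
# N2 (S3519), class `pExt`: normalisers of groups of symplectic type (helper22)

`Cfsg.Agent.N2C.ext : On pExt`.
-/

set_option autoImplicit false
set_option linter.unusedSectionVars false

namespace Cfsg.Agent.N2C.Ext

open Cfsg.Agent.DS.Cl Cfsg.Agent.DS.Cl.Fwd Cfsg.Agent.SB.Cl Cfsg.Agent.TH.Cl.Ext Module
open Cfsg.Agent.TH.Cl (KL KU KSp KO)

section num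

theorem pw_le {q a m c f e : ℕ} (ha : 0 < a) (hq : a ≤ q) (h : (a + 1) ^ m * c ≤ f * a ^ (m + e)) :
    (q + 1) ^ m * c ≤ f * q ^ (m + e) := by
  refine Nat.le_of_mul_le_mul_left ?_ (pow_pos ha m)
  calc a ^ m * ((q + 1) ^ m * c) = (a * (q + 1)) ^ m * c := by rw [mul_pow, mul_assoc]
    _ ≤ (q * (a + 1)) ^ m * c := Nat.mul_le_mul_right _ (Nat.pow_le_pow_left (by nlinarith) m)
    _ = q ^ m * ((a + 1) ^ m * c) := by rw [mul_pow, mul_assoc]
    _ ≤ q ^ m * (f * a ^ (m + e)) := Nat.mul_le_mul_left _ h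
    _ = a ^ m * (f * (q ^ m * a ^ e)) := by ring
    _ ≤ _ := by rw [pow_add]; gcongr

theorem num_one {q d r S : ℕ} (hr : r = 5 ∨ 7 ≤ r) (hq : r ≤ q + 1) (hd : d ≤ r) (h : q ^ (r ^ 2 - 1) ≤ 2 * d * S) :
    ((q + 1) ^ r) ^ 3 * r ^ 5 ≤ 8 * S := by
  have h1 : ((q + 1) ^ r) ^ 3 * r ^ 5 * r ≤ 4 * q ^ (r ^ 2 - 1) := by
    rcases hr with rfl | hr
    · have := pw_le (q := q) (a := 4) (m := 15) (c := 5 ^ 6) (f := 4) (e := 9) (by norm_num) (by omega) (by norm_num)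
      rw [← pow_mul, mul_assoc]
      exact this
    have h2 := pw_le (q := q) (a := 3) (m := 2) (c := 1) (f := 1) (e := 1) (by norm_num) (by omega) (by norm_num)
    rw [mul_one, one_mul] at h2
    refine le_trans ((Nat.pow_le_pow_iff_left two_ne_zero).1 ?_) (Nat.le_mul_of_pos_left _ (by norm_num))
    calc _ = ((q + 1) ^ (r * 3) * r ^ 6) ^ 2 := by ring
      _ ≤ ((q + 1) ^ (r * 3) * (q + 1) ^ 6) ^ 2 := by gcongr
      _ = ((q + 1) ^ 2) ^ (r * 3 + 6) := by generalize q + 1 = x; ring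
      _ ≤ (q ^ (2 + 1)) ^ (r * 3 + 6) := Nat.pow_le_pow_left h2 _
      _ ≤ _ := by
        rw [← pow_mul, ← pow_mul]
        refine Nat.pow_le_pow_right (by omega) ?_
        have : 7 * r ≤ r ^ 2 := by nlinarith
        omega
  refine Nat.le_of_mul_le_mul_right (h1.trans ?_) (show 0 < r by omega)
  calc _ ≤ 4 * (2 * d * S) := Nat.mul_le_mul_left _ h
    _ ≤ 4 * (2 * r * S) := by gcongr
    _ = _ := by ring

theorem le_of_two_mul {X d S Y : ℕ} (h0 : 0 < Y) (h1 : X * (2 * d) ≤ Y) (h : Y ≤ 2 * d * S) : X ≤ S := by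
  refine Nat.le_of_mul_le_mul_right (h1.trans (h.trans (mul_comm _ _).le)) (Nat.pos_of_ne_zero fun e => ?_)
  rw [e, zero_mul] at h
  omega

theorem num_big {q d r k t S : ℕ} (h2 : 2 ≤ q) (hr : 3 ≤ r) (hq : r ≤ q + 1) (hd : d ≤ q + 1) (hk : 2 ≤ k)
    (ht : 9 * t ≤ (r ^ k) ^ 2) (h : q ^ ((r ^ k) ^ 2 - 1) ≤ 2 * d * S) : ((q ^ 2) ^ t) ^ 3 * r ^ (2 * k ^ 2 + 3 * k) ≤ S := by
  have h1 : 24 * (2 * k ^ 2 + 3 * k + 1) + 30 ≤ 5 * (3 ^ k) ^ 2 := by
    clear ht h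
    induction k, hk using Nat.le_induction with
    | base => norm_num
    | succ k hk ih => rw [pow_succ 3]; nlinarith
  have h3 : (3 ^ k) ^ 2 ≤ (r ^ k) ^ 2 := by gcongr
  have h4 := pw_le (q := q) (a := 2) (m := 5) (c := 1) (f := 1) (e := 3) (by norm_num) h2 (by norm_num)
  rw [mul_one, one_mul] at h4
  refine le_of_two_mul (by positivity) ((Nat.pow_le_pow_iff_left (show 5 ≠ 0 by norm_num)).1 ?_) h
  calc _ ≤ (((q ^ 2) ^ t) ^ 3 * (q + 1) ^ (2 * k ^ 2 + 3 * k) * (q * (q + 1))) ^ 5 := by gcongr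
    _ = q ^ (30 * t + 5) * ((q + 1) ^ 5) ^ (2 * k ^ 2 + 3 * k + 1) := by generalize q + 1 = x; ring
    _ ≤ q ^ (30 * t + 5) * (q ^ (5 + 3)) ^ (2 * k ^ 2 + 3 * k + 1) := by gcongr
    _ ≤ _ := by
      rw [← pow_mul, ← pow_mul, ← pow_add]
      exact Nat.pow_le_pow_right (by omega) (by omega)

theorem num_two {z k t M S : ℕ} (hz : 2 ≤ z) (hk : 4 ≤ k) (ht : 32 * t ≤ 3 * (2 ^ k) ^ 2) (hM : 2 * M + 2 ^ k = (2 ^ k) ^ 2)
    (h : z ^ M ≤ 8 * S) : (z ^ t) ^ 3 * 2 ^ (2 * k ^ 2 + 3 * k) ≤ S := by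
  have h1 : 2 * k ^ 2 + 3 * k + 3 ≤ 3 * 2 ^ k := by
    clear ht hM
    induction k, hk using Nat.le_induction with
    | base => norm_num
    | succ k hk ih => rw [pow_succ 2]; nlinarith
  have h2 : 16 ≤ 2 ^ k := Nat.pow_le_pow_right (n := 2) two_pos hk
  have h3 : 16 * 2 ^ k ≤ (2 ^ k) ^ 2 := by nlinarith
  refine Nat.le_of_mul_le_mul_left (le_trans ?_ h) (show 0 < 8 by norm_num)
  calc _ = (z ^ t) ^ 3 * 2 ^ (2 * k ^ 2 + 3 * k + 3) := by ring
    _ ≤ (z ^ t) ^ 3 * z ^ (2 * k ^ 2 + 3 * k + 3) := by gcongr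
    _ ≤ _ := by
      rw [← pow_mul, ← pow_add]
      exact Nat.pow_le_pow_right (by omega) (by omega)

end num

variable {A : Type} [Ring A] [StarRing A] [Finite A]

variable (A) in
/-- `q` symmetric central elements with invertible differences -/
def Sc (q : ℕ) : Prop := ∃ (ι : Type) (e : ι → A), Nat.card ι = q ∧ (∀ i, e i ∈ Subring.center A) ∧
  (∀ i, star (e i) = e i) ∧ ∀ i j, i ≠ j → IsUnit (e i - e j)

theorem isUnit_three (h3 : (3 : A) = 0) {s : A} (hs : s * s = 1 + 1) {m n : ℤ} (h : 3 ∣ (m ^ 2 + n ^ 2) ^ 2 - 1) :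
    IsUnit ((m : A) + n * s) := by
  obtain ⟨c, hc⟩ := h
  have h1 := congrArg (Int.cast : ℤ → A) hc
  have h2 : ((m : A) + n * s) * (m - n * s) = ((m ^ 2 + n ^ 2 : ℤ) : A) := by
    have h4 : (n : A) * s * (n * s) = n * n * (1 + 1) := by
      rw [← hs, mul_assoc, ← mul_assoc s, ← Int.cast_comm n s, mul_assoc, mul_assoc]
    rw [mul_sub, add_mul, add_mul, h4, ← Int.cast_comm m (n * s), Int.cast_add, Int.cast_pow, Int.cast_pow,
      ← add_zero (_ + _ ^ 2), ← mul_zero (-(n * n : A)), ← h3, show (3 : A) = 1 + 1 + 1 by norm_num]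
    noncomm_ring
  rw [Int.cast_mul, Int.cast_ofNat, h3, zero_mul, Int.cast_sub, Int.cast_pow, Int.cast_one, sub_eq_zero, pow_two] at h1
  exact IsUnit.of_mul_eq_one _ (by rw [← mul_assoc, h2, h1])

namespace XC

variable {F : FR A} {H N : Subgroup (RingAut A)} {p r : ℕ} (E : XC F H N p r)
include E

theorem dvd_of_pow {m : ℕ} (hm : ∀ z ∈ Subring.center A, Un z → z ^ m = 1) : r ∣ m := by
  obtain ⟨u, v, hu, hv, h⟩ := E.exists_pair E.nd_top E.σ.ne
  obtain ⟨ζ, a1, a2, a3⟩ := E.exists_cm hu hv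
  by_contra h1
  exact h (a3.eq ((pow_eq_one_iff_of_coprime ((Nat.Prime.coprime_iff_not_dvd E.σ.prime).2 h1)).1 ⟨a2, hm ζ a3.1 a1⟩))

omit E in
theorem card_ne (E : XC F H N p 2) (j : ℕ) : Nat.card (Subring.center A) ≠ 2 ^ j := fun e => by
  have := E.σ.ss.nontrivial
  obtain ⟨h, hh⟩ := E.exists_hf
  have h1 := SB.C2.cast_card_center (A := A)
  rw [e, Nat.cast_pow, Nat.cast_ofNat] at h1
  exact ((IsUnit.of_mul_eq_one_right h hh.two).pow j).ne_zero h1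

omit E in
theorem gd_two (E : XC F H N p 2) {k M : ℕ} (hN : Nat.card N = (2 ^ k) ^ 2) (hk : 4 ≤ k) (hM : 2 * M + 2 ^ k = (2 ^ k) ^ 2)
    (hS : Nat.card (Subring.center A) ^ M ≤ 8 * Nat.card F.S) : Gd F H := by
  have h2 : 16 ≤ 2 ^ k := Nat.pow_le_pow_right (n := 2) two_pos hk
  obtain ⟨g, t, g1, g2, g3, g4, g5⟩ := E.two_big (by nlinarith)
  exact E.gd_of g1 g2 g3 g4 ((Nat.mul_le_mul_left _ (E.card_B (k := k) (by rw [hN, ← pow_mul, mul_comm]))).trans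
    (num_two E.σ.two_le hk (hN ▸ g5) hM hS))

/-- **linear and unitary groups** -/
theorem coreU {n q m : ℕ} (hN : Nat.card N = n ^ 2) (h5 : 5 ≤ n) (hz : Nat.card (Subring.center A) = q ^ 2) (sc : Sc A q)
    (hq : 2 ≤ q) (hm : ∀ z ∈ Subring.center A, Un z → z ^ m = 1) (m0 : 0 < m) (m1 : m ≤ q + 1)
    (hS : q ^ (n ^ 2 - 1) ≤ 2 * n.gcd m * Nat.card F.S) : Gd F H := by
  obtain ⟨k, rfl⟩ := E.exists_k hN
  obtain ⟨ι, e, rfl, e1, e2, e3⟩ := sc
  have d1 := (Nat.gcd_le_right (r ^ k) m0).trans m1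
  have hB := E.card_B (k := k) (by rw [hN, ← pow_mul, mul_comm])
  have h1 := (Nat.le_of_dvd m0 (E.dvd_of_pow hm)).trans m1
  have h0 := E.σ.prime.two_le
  by_cases hr : r = 2
  · subst hr
    by_cases hk : 4 ≤ k
    · obtain ⟨M, hM⟩ : ∃ M, 2 * M + 2 ^ k = (2 ^ k) ^ 2 := by
        obtain ⟨M, hM⟩ := Nat.even_mul_pred_self (2 ^ k)
        exact ⟨M, by rw [two_mul, ← hM, Nat.mul_sub_one, pow_two, Nat.sub_add_cancel (Nat.le_mul_self _)]⟩
      refine E.gd_two hN hk hM (le_trans (le_of_two_mul (by positivity) ?_ hS) (Nat.le_mul_of_pos_left _ (by norm_num)))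
      have h2 := pw_le (a := 2) (m := 1) (c := 2) (f := 1) (e := 3) two_pos hq (by norm_num)
      rw [hz, ← pow_mul]
      rw [pow_one, one_mul] at h2
      calc _ ≤ Nat.card ι ^ (2 * M) * Nat.card ι ^ (1 + 3) := Nat.mul_le_mul_left _ (by omega)
        _ ≤ _ := by
          rw [← pow_add]
          exact Nat.pow_le_pow_right (by omega) (by omega)
    obtain rfl : k = 3 := by
      by_contra h2
      have : 2 ^ k ≤ 2 ^ 2 := Nat.pow_le_pow_right two_pos (by omega)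
      omega
    have h3 : Nat.card ι ≠ 2 := fun h => E.card_ne 2 (by rw [hz, h])
    obtain ⟨h, hh⟩ := E.exists_hf
    obtain ⟨g, g1, g2, g3, g4, g5, ⟨θ, t1, t2⟩, -⟩ := E.two_eight hN
    refine E.gd_of g1 g2 g3 (Cyc.cU_le_unit g1 g4 (cen_comm hh.cen g).symm (by rw [hh.st, ← mul_two, hh.two]) t1 t2 e
      (fun i => (cen_comm (e1 i) g).symm) e2 e3 hq (ν := 8) (by rwa [hz, ← pow_mul, mul_comm, pow_mul] at g5))
      ((Nat.mul_le_mul_left _ hB).trans (le_of_two_mul (by positivity) ?_ hS))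
    have h2 := pw_le (q := Nat.card ι) (a := 3) (m := 25) (c := 2 ^ 28) (f := 1) (e := 38) (by norm_num) (by omega)
      (by norm_num)
    calc _ ≤ ((Nat.card ι + 1) ^ 8) ^ 3 * 2 ^ (2 * 3 ^ 2 + 3 * 3) * (2 * (Nat.card ι + 1)) := by gcongr
      _ = (Nat.card ι + 1) ^ 25 * 2 ^ 28 := by ring
      _ ≤ _ := h2.trans (by norm_num)
  by_cases hk : 2 ≤ k
  · obtain ⟨g, t, g1, g2, g3, g4, g5⟩ := E.odd_big hr (by
      rw [hN]
      exact Nat.pow_lt_pow_left (lt_of_lt_of_le (by nlinarith) (Nat.pow_le_pow_right (by omega) hk)) two_ne_zero)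
    exact E.gd_of g1 g2 g3 (hz ▸ g4) ((Nat.mul_le_mul_left _ hB).trans (num_big hq (by omega) h1 d1 hk (hN ▸ g5) hS))
  obtain rfl : k = 1 := by
    by_contra h2
    rw [show k = 0 by omega, pow_zero] at h5
    omega
  rw [pow_one] at h5 hN hS
  refine E.odd_small hr hN e e1 e2 e3 hq hz.le (num_one ?_ h1 (Nat.gcd_le_left _ (by omega)) hS)
  by_contra h2
  exact absurd ((show r = 6 by omega) ▸ E.σ.prime) (by norm_num)

/-- **symplectic and orthogonal groups** -/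
theorem coreB {n q M : ℕ} (hN : Nat.card N = n ^ 2) (h5 : 5 ≤ n) (hz : Nat.card (Subring.center A) = q) (sc : Sc A q)
    (hs : ∀ z ∈ Subring.center A, star z = z) (hM : 2 * M + n = n ^ 2) (hS : q ^ M ≤ 8 * Nat.card F.S)
    (h3 : n = 8 → q = 3 → 3317760000000 ≤ Nat.card F.S) : Gd F H := by
  obtain ⟨k, rfl⟩ := E.exists_k hN
  have hU : ∀ c ∈ Subring.center A, Un c → c * c = 1 := fun c h1 h2 => by rw [← h2.ms, hs c h1]
  obtain rfl : r = 2 := (Nat.prime_dvd_prime_iff_eq E.σ.prime Nat.prime_two).1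
    (E.dvd_of_pow fun z h1 h2 => by rw [pow_two, hU z h1 h2])
  by_cases hk : 4 ≤ k
  · exact E.gd_two hN hk hM (hz ▸ hS)
  obtain rfl : k = 3 := by
    by_contra h2
    have : 2 ^ k ≤ 2 ^ 2 := Nat.pow_le_pow_right two_pos (by omega)
    omega
  obtain rfl : M = 28 := by omega
  have hq := hz ▸ E.σ.two_le
  obtain ⟨h, hh⟩ := E.exists_hf
  obtain ⟨g, g1, g2, g3, g4, g5, ⟨θ, t1, t2⟩, s, s1, s2, s3⟩ := E.two_eight hN
  have c1 := (cen_comm hh.cen g).symm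
  have c2 : h + star h = 1 := by rw [hh.st, ← mul_two, hh.two]
  by_cases h4 : q = 3
  · obtain ⟨i, j, a, b, c, d, δ, t⟩ := E.exists_tr (by omega)
    have h6 : (3 : A) = 0 := by simpa [hz, h4] using SB.C2.cast_card_center (A := A)
    have h7 := Cyc.cU_le_unit g1 g4 c1 c2 t1 t2 (fun x : Fin 3 × Fin 3 => (((x.1 : ℕ) : ℤ) : A) + (((x.2 : ℕ) : ℤ) : A) * s)
      (fun x => by rw [add_mul, mul_add, Int.cast_comm, mul_assoc, s1, ← mul_assoc, Int.cast_comm _ g, mul_assoc])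
      (fun x => by rw [star_add, star_mul, star_intCast, star_intCast, s2, Int.cast_comm _ s])
      (fun x y hxy => by
        rw [add_sub_add_comm, ← sub_mul, ← Int.cast_sub, ← Int.cast_sub]
        exact isUnit_three h6 s3 (by revert x y; decide)) (ν := 2) (by simp) (by simpa [hz, h4] using g5)
    refine E.gd_of g1 g2 g3 h7 ((Nat.mul_le_mul_left _ (E.card_eight t hN hU)).trans (le_trans ?_ (h3 rfl h4)))
    simp
  obtain ⟨ι, e, rfl, e1, e2, e3⟩ := sc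
  have h6 := E.card_ne 1
  have h7 := E.card_ne 2
  refine E.gd_of g1 g2 g3 (Cyc.cU_le_unit g1 g4 c1 c2 t1 t2 e (fun i => (cen_comm (e1 i) g).symm) e2 e3 hq (ν := 4)
    (by rwa [hz, show 8 = 4 * 2 from rfl, pow_mul] at g5)) ((Nat.mul_le_mul_left _ (E.card_B (k := 3) hN)).trans
      (Nat.le_of_mul_le_mul_left (le_trans ?_ hS) (show 0 < 8 by norm_num)))
  have h2 := pw_le (q := Nat.card ι) (a := 5) (m := 12) (c := 2 ^ 30) (f := 1) (e := 16) (by norm_num) (by omega)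
    (by norm_num)
  calc _ = (Nat.card ι + 1) ^ 12 * 2 ^ 30 := by ring
    _ ≤ _ := h2.trans (by norm_num)

theorem card_N {n : ℕ} (hn : Nat.card A = Nat.card (Subring.center A) ^ n ^ 2) : Nat.card N = n ^ 2 :=
  Nat.pow_right_injective E.σ.two_le (E.σ.card_eq.symm.trans hn)

end XC

theorem pow_of_ZI (F : FR A) {m : ℕ} (h : ∀ z ∈ Cyc.ZI F, z ^ m = 1) : ∀ z ∈ Subring.center A, Un z → z ^ m = 1 :=
  fun z h1 h2 => (Units.val_pow_eq_pow_val (mkU z h2) m).symm.trans (congrArg Units.val (h (mkU z h2)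
    (Cyc.mem_ZI (FR.mem_Iso_of_cj h2 (by rw [cj_eq_one_iff.2 h1]; exact one_mem _)) h1)))

section kinds

variable {K V : Type} [Field K] [Fintype K] [AddCommGroup V] [Module K V] [Finite V]

theorem sc_L (n : ℕ) (K : Type) [Field K] [Fintype K] : Sc (LR (Fin n) K) (Fintype.card K) :=
  ⟨K, fun c => LR.mk (c • 1) (c • 1), Nat.card_eq_fintype_card,
    fun c => Subring.mem_center_iff.2 fun x => by
      obtain ⟨a, b, rfl⟩ := LR.exists_mk x
      simp [LR.mk_mul],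
    fun c => by simp [LR.star_mk], fun c d h => IsUnit.of_mul_eq_one (LR.mk ((c - d)⁻¹ • 1) ((c - d)⁻¹ • 1)) (by
      rw [LR.mk_sub, LR.mk_mul, ← sub_smul, smul_mul_smul_comm, mul_inv_cancel₀ (sub_ne_zero.2 h), one_mul, one_smul,
        LR.one_eq])⟩

theorem card_L {n : ℕ} (hn : 0 < n) (K : Type) [Field K] [Fintype K] :
    Nat.card (Subring.center (LR (Fin n) K)) = Fintype.card K ^ 2 ∧
      Nat.card (LR (Fin n) K) = Nat.card (Subring.center (LR (Fin n) K)) ^ n ^ 2 := by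
  have : Nonempty (Fin n) := ⟨⟨0, hn⟩⟩
  rw [SB.C2.L_card_center SB.C2.prL_bij, SB.C2.L_card (SB.C2.prL_bij (n := n) (K := K)), SB.C2.card_end, finrank_fin_fun, ← pow_mul,
    ← pow_mul, mul_comm, Nat.card_eq_fintype_card]
  exact ⟨rfl, rfl⟩

theorem S_ge_L {n : ℕ} {F : FR (LR (Fin n) K)} (k : KL F) :
    Fintype.card K ^ (n ^ 2 - 1) ≤ 2 * n.gcd (Fintype.card K - 1) * Nat.card F.S := by
  have h1 := Cyc.oGL_ge' (Cyc.two_le_q K) (n := n) (by have := k.dim; omega)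
  rw [← Cyc.card_S_L k] at h1
  exact Nat.le_of_mul_le_mul_left (h1.trans (le_of_eq (by ring))) (Nat.sub_pos_of_lt Fintype.one_lt_card)

variable {h : HF K V} {F : FR h.EB}

theorem sc_U {q : ℕ} (k : KU h F q) : Sc h.EB q :=
  ⟨{x : K // x ^ q = x}, fun c => h.eb (c.1 • 1), LieClassical.HermBasic.card_fixed k.card, fun c => h.smul_mem_center _,
    fun c => by rw [Cyc.sc_star, Cyc.tau_pow k.u k.card, c.2], fun _ _ hcd => Cyc.sc_unit fun e => hcd (Subtype.ext e)⟩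

theorem sc_B (hτ : ∀ c, h.τ c = c) : Sc h.EB (Fintype.card K) :=
  ⟨K, fun c => h.eb (c • 1), Nat.card_eq_fintype_card, fun c => h.smul_mem_center _, fun c => by rw [Cyc.sc_star, hτ],
    fun _ _ => Cyc.sc_unit⟩

theorem card_cen [Nontrivial V] (h : HF K V) : Nat.card (Subring.center h.EB) = Fintype.card K := by
  rw [SB.C2.card_center (SB.C2.ebE h), Nat.card_eq_fintype_card]

theorem S_ge_U {q : ℕ} (k : KU h F q) : q ^ (finrank K V ^ 2 - 1) ≤ 2 * (finrank K V).gcd (q + 1) * Nat.card F.S := by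
  have h0 := ClassicalGeometry.GUBasic.two_le k.card
  have h3 := k.dim
  have h1 := Cyc.oGU_ge h0 (n := finrank K V) (by omega)
  rw [← Cyc.card_S_U k, mul_assoc, mul_left_comm (Nat.gcd _ _)] at h1
  have h2 := Nat.le_of_mul_le_mul_left h1 q.succ_pos
  have h4 : 9 ≤ finrank K V ^ 2 := by nlinarith
  have h5 : 4 ≤ q ^ 2 := by nlinarith
  rw [show finrank K V ^ 2 - 1 = 2 + (finrank K V ^ 2 - 3) by omega, pow_add, mul_assoc]
  exact (Nat.mul_le_mul_right _ (show q ^ 2 ≤ 2 * (q ^ 2 - 1) by omega)).trans (by rw [mul_assoc]; omega)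

theorem S_ge_Sp {j : ℕ} (k : KSp h F j) : Fintype.card K ^ (2 * j ^ 2 + j) ≤ 3 * Nat.card F.S := by
  have h1 := Cyc.oSp_ge' (Cyc.two_le_q K) j
  have h2 := Nat.mul_le_mul_right (Nat.card F.S) (Nat.gcd_le_left (Fintype.card K - 1) two_pos)
  rw [Cyc.card_S_Sp k] at h2
  omega

theorem S_ge_O {Q : QuadraticForm K V} (k : KO h F Q) :
    (∃ m, finrank K V = 2 * m + 1 ∧ Cyc.oSp m (Fintype.card K) ≤ 2 * Nat.card F.S) ∨
      ∃ m, finrank K V = 2 * (m + 1) ∧ Cyc.oP (m + 1) (Fintype.card K) ≤ 4 * Nat.card F.S := by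
  have h7 := k.dim
  rcases Cyc.card_S_O k with ⟨m, h1, -, h2⟩ | ⟨m, h1, -, h2⟩ | ⟨m, h1, -, h2⟩
  · exact Or.inl ⟨m, h1, h2.ge⟩
  all_goals
    obtain ⟨m, rfl⟩ := Nat.exists_eq_add_of_le' (show 1 ≤ m by omega)
    refine Or.inr ⟨m, h1, le_trans ?_ (h2.ge.trans (Nat.mul_le_mul_right _ (Nat.gcd_le_left _ four_pos)))⟩
  exacts [le_rfl, Cyc.oP_le_oM _ _]

end kinds

end Cfsg.Agent.N2C.Ext

namespace Cfsg.Agent.N2C

open Cfsg.Agent.N2C.Ext Module

/-- **class `pExt`** -/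
theorem ext : On pExt := by
  refine ⟨fun K _ _ n F H p k h5 c h => ?_, fun K V _ _ _ _ _ f F q H p k h5 c h => ?_,
    fun K V _ _ _ _ _ f F j H p k h5 c h => ?_, fun K V _ _ _ _ _ f F Q H p k c h => ?_⟩ <;>
    obtain ⟨N, r, E⟩ := exists_xc c h
  · obtain ⟨h1, h2⟩ := card_L (n := n) (by omega) K
    exact E.coreU (E.card_N h2) h5 h1 (sc_L n K) (Cyc.two_le_q K) (pow_of_ZI F fun _ => Cyc.ZI_pow_L)
      (Nat.sub_pos_of_lt Fintype.one_lt_card) (by omega) (S_ge_L k)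
  · have : Nontrivial V := nontrivial_of_finrank_pos (R := K) (by omega)
    exact E.coreU (E.card_N (SB.C2.card_EB f)) h5 ((card_cen f).trans k.card) (sc_U k)
      (ClassicalGeometry.GUBasic.two_le k.card) (pow_of_ZI F fun _ => Cyc.ZI_pow_U k) q.succ_pos le_rfl (S_ge_U k)
  · have h1 := k.dim
    have : Nontrivial V := nontrivial_of_finrank_pos (R := K) (by omega)
    have h2 := S_ge_Sp k
    obtain ⟨M, hM⟩ : ∃ M, M + j = 2 * j ^ 2 := Nat.exists_eq_add_of_le' (show j ≤ 2 * j ^ 2 by nlinarith) |>.imp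
      fun _ => Eq.symm
    refine E.coreB (M := M) (E.card_N (SB.C2.card_EB f)) (by omega) (card_cen f) (sc_B k.sp.1)
      (SB.C2.star_cen_eq f k.sp.1) (by rw [h1]; linarith)
      ((Nat.pow_le_pow_right Fintype.card_pos (by omega)).trans (h2.trans (by omega))) fun h3 h4 => ?_
    rw [h4, show j = 4 by omega] at h2
    omega
  · have h1 := k.dim
    have : Nontrivial V := nontrivial_of_finrank_pos (R := K) (by omega)
    rcases S_ge_O k with ⟨m, h2, h3⟩ | ⟨m, h2, h3⟩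
    · have h4 := Cyc.oSp_ge' (Cyc.two_le_q K) m
      exact E.coreB (M := 2 * m ^ 2 + m) (E.card_N (SB.C2.card_EB f)) (by omega) (card_cen f) (sc_B k.o.1)
        (SB.C2.star_cen_eq f k.o.1) (by rw [h2]; ring) (by omega) (by omega)
    · have h4 := Cyc.oP_ge (Cyc.two_le_q K) (show 3 ≤ m by omega)
      refine E.coreB (M := 2 * m ^ 2 + 3 * m + 1) (E.card_N (SB.C2.card_EB f)) (by omega) (card_cen f) (sc_B k.o.1)
        (SB.C2.star_cen_eq f k.o.1) (by rw [h2]; ring) (by omega) fun h5 h6 => ?_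
      rw [h6, show m = 3 by omega, show Cyc.oP (3 + 1) 3 = 19808719257600 by decide +kernel] at h3
      omega

end Cfsg.Agent.N2C
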