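import Cfsg.Agent.TH.Cl.Ext.TwoA
import Cfsg.Agent.N2.Cl.Cyc.Cov
import Cfsg.Agent.N2.Cl.Par.Main

/-!
# N2 (S3519), class `pExt`: the context, hyperbolic pairs, the order of the normaliser (helper22)

The lemmas `exists_inv`, `root`, `split` are the ones of `TH/Cl/Ext` for the context of `N2C`.
-/

set_option autoImplicit false
set_option linter.unusedSectionVars false

namespace Cfsg.Agent.N2C.Ext

open Cfsg.Agent.DS.Cl Cfsg.Agent.DS.Cl.Fwd Cfsg.Agent.SB.Cl Cfsg.Agent.TH.Cl.Ext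

section groups

variable {Γ : Type*} [Group Γ] [Finite Γ]

/-- the elements of `X` commuting with `ν` -/
abbrev cz (X : Subgroup Γ) (ν : Γ) : Subgroup Γ := X ⊓ Subgroup.centralizer {ν}

omit [Finite Γ] in
theorem mem_cz {X : Subgroup Γ} {ν γ : Γ} : γ ∈ cz X ν ↔ γ ∈ X ∧ γ * ν = ν * γ := by
  rw [Subgroup.mem_inf, Subgroup.mem_centralizer_singleton_iff]

theorem card_le_of_conj (X : Subgroup Γ) (ν : Γ) (T : Set Γ) (h : ∀ γ ∈ X, γ * ν * γ⁻¹ ∈ T) :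
    Nat.card X ≤ T.ncard * Nat.card (cz X ν) := by
  rw [← ((cz X ν).subgroupOf X).index_mul_card, TH.In.card_sub inf_le_left, ← Nat.card_coe_set_eq]
  refine Nat.mul_le_mul_right _ (Nat.card_le_card_of_injective
    (fun q : X ⧸ (cz X ν).subgroupOf X => (⟨_, h _ q.out.2⟩ : T)) fun q q' e => ?_)
  have h1 : (q.out : Γ) * ν * (q.out : Γ)⁻¹ = q'.out * ν * (q'.out : Γ)⁻¹ := congrArg Subtype.val e
  rw [← q.out_eq', ← q'.out_eq', QuotientGroup.eq, Subgroup.mem_subgroupOf, mem_cz]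
  refine ⟨Subtype.property _, ?_⟩
  push_cast
  calc (q.out : Γ)⁻¹ * q'.out * ν = (q.out : Γ)⁻¹ * (q'.out * ν * (q'.out : Γ)⁻¹) * q'.out := by group
    _ = _ := by rw [← h1]; group

theorem card_mul_le_of_disj {C W K : Subgroup Γ} (h1 : C ≤ K) (h2 : W ≤ K) (h : ∀ ν ∈ W, ν ∈ C → ν = 1) :
    Nat.card C * Nat.card W ≤ Nat.card K := by
  rw [← Nat.card_prod]
  refine Nat.card_le_card_of_injective (fun q : C × W => (⟨q.1 * q.2, K.mul_mem (h1 q.1.2) (h2 q.2.2)⟩ : K))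
    fun q q' e => ?_
  have h3 : (q.1 : Γ) * q.2 = q'.1 * q'.2 := congrArg Subtype.val e
  have h4 : (q'.2 : Γ) * (q.2 : Γ)⁻¹ = 1 := h _ (W.mul_mem q'.2.2 (W.inv_mem q.2.2)) (by
    rw [show (q'.2 : Γ) * (q.2 : Γ)⁻¹ = (q'.1 : Γ)⁻¹ * q.1 by
      rw [mul_inv_eq_iff_eq_mul, mul_assoc, h3, inv_mul_cancel_left]]
    exact C.mul_mem (C.inv_mem q'.1.2) q.1.2)
  rw [mul_inv_eq_one] at h4
  rw [h4] at h3
  exact Prod.ext (Subtype.ext (mul_right_cancel h3)) (Subtype.ext h4.symm)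

omit [Finite Γ] in
theorem mem_comm_iff {P : Subgroup Γ} {x : Γ} (hx : x ∈ P) :
    x ∈ (⁅P, P⁆ : Subgroup Γ) ↔ Abelianization.of (⟨x, hx⟩ : P) = 1 := by
  rw [← MonoidHom.mem_ker, Abelianization.ker_of, ← P.map_subtype_commutator]
  exact ⟨fun ⟨y, hy, e⟩ => (show y = ⟨x, hx⟩ from Subtype.ext e) ▸ hy, fun h => ⟨_, h, rfl⟩⟩

omit [Finite Γ] in
theorem mul_pow_mem {P : Subgroup Γ} {x y : Γ} (hx : x ∈ P) (hy : y ∈ P) {m : ℕ} (h1 : x ^ m ∈ (⁅P, P⁆ : Subgroup Γ))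
    (h2 : y ^ m ∈ (⁅P, P⁆ : Subgroup Γ)) : (x * y) ^ m ∈ (⁅P, P⁆ : Subgroup Γ) := by
  rw [mem_comm_iff (P.pow_mem hx m)] at h1
  rw [mem_comm_iff (P.pow_mem hy m)] at h2
  rw [mem_comm_iff (P.pow_mem (P.mul_mem hx hy) m)]
  change Abelianization.of ((⟨x, hx⟩ : P) ^ m) = 1 at h1
  change Abelianization.of ((⟨y, hy⟩ : P) ^ m) = 1 at h2
  change Abelianization.of (((⟨x, hx⟩ : P) * ⟨y, hy⟩) ^ m) = 1
  rw [map_pow] at h1 h2
  rw [map_pow, map_mul, mul_pow, h1, h2, mul_one]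

omit [Finite Γ] in
theorem mem_of_coprime {S : Subgroup Γ} {x : Γ} {a b : ℕ} (h : a.Coprime b) (h1 : x ^ a ∈ S) (h2 : x ^ b ∈ S) : x ∈ S := by
  obtain ⟨i, j, e⟩ := Nat.isCoprime_iff_coprime.2 h
  rw [← zpow_one x, ← e, zpow_add, mul_comm i, mul_comm j, zpow_mul, zpow_mul, zpow_natCast, zpow_natCast]
  exact S.mul_mem (S.zpow_mem h1 _) (S.zpow_mem h2 _)

end groups

variable {A : Type} [Ring A] [StarRing A] [Finite A]

/-- the automorphisms fixing a ring element -/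
abbrev St (u : A) : Subgroup (RingAut A) := MulAction.stabilizer (RingAut A) u

theorem mem_St {γ : RingAut A} {u : A} : γ ∈ St u ↔ γ u = u := Iff.rfl

theorem ad_mem_St {v u : A} (hv : Un v) : ad v ∈ St u ↔ v * u = u * v := ad_fix hv

/-- the orthogonal complement of a pair -/
def pp (M : Subgroup (RingAut A)) (x y : A) : Subgroup (RingAut A) := M ⊓ St x ⊓ St y

theorem pp_le {M : Subgroup (RingAut A)} {x y : A} : pp M x y ≤ M := inf_le_left.trans inf_le_left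

theorem lf_pp {M : Subgroup (RingAut A)} {x y u : A} : Lf (pp M x y) u ↔ Lf M u ∧ u * x = x * u ∧ u * y = y * u :=
  ⟨fun h => ⟨⟨h.1, h.2.1.1⟩, (ad_mem_St h.1).1 h.2.1.2, (ad_mem_St h.1).1 h.2.2⟩,
    fun h => ⟨h.1.1, ⟨h.1.2, (ad_mem_St h.1.1).2 h.2.1⟩, (ad_mem_St h.1.1).2 h.2.2⟩⟩

theorem lf_mono {M N : Subgroup (RingAut A)} (h : M ≤ N) {u : A} (hu : Lf M u) : Lf N u := ⟨hu.1, h hu.2⟩

/-- non-degenerate subgroups -/
structure Nd (N M : Subgroup (RingAut A)) : Prop where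
  le : M ≤ N
  nd : ∀ u, Lf M u → u ∉ Subring.center A → ∃ v, Lf M v ∧ v * u ≠ u * v

/-- an automorphism commuting with `ad x` preserves the commutators with `x` -/
theorem conj_apply {γ ν : RingAut A} (h1 : γ ∈ SAut A) (h2 : γ ∈ Lin A) (h3 : ν ∈ Lin A) {x κ : A} (hx : Un x)
    (h : γ * ad x = ad x * γ) (hκ : κ ∈ Subring.center A) (e : ν x = κ * x) : (γ * ν * γ⁻¹) x = ν x := by
  have h4 : ad (γ⁻¹ x) = ad x := by rw [← conj_ad γ⁻¹ hx, inv_inv, mul_assoc, ← h, inv_mul_cancel_left]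
  obtain ⟨c, hc, -, h5⟩ := (ad_eq_iff (hx.map ((SAut A).inv_mem h1)) hx).1 h4
  rw [ra_mul, ra_mul, h5, map_mul, h3 c hc, e, ← mul_assoc, cen_comm hκ, mul_assoc, ← h5, map_mul, h2 κ hκ, ra_apply_inv]

/-- the context -/
structure XC (F : FR A) (H N : Subgroup (RingAut A)) (p r : ℕ) : Prop where
  c : Ctx F H p
  σ : Sit F N r
  le : N ≤ H
  min : Main.MinN H N

theorem exists_xc {F : FR A} {H : Subgroup (RingAut A)} {p : ℕ} (c : Ctx F H p) (h : TH.Cl.ExD F H) :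
    ∃ N r, XC F H N p r := by
  obtain ⟨-, N, h1, h2, h4, h5⟩ := h
  obtain ⟨r, hr, he⟩ := DS.Cl.Ext.exists_exp h2.ne h4 h2.nrm h2.min
  exact ⟨N, r, c, ⟨c.ss, h1.trans inf_le_right, h2.ne, h4, hr, he, h5⟩, h1.trans inf_le_left, h2⟩

namespace XC

variable {F : FR A} {H N : Subgroup (RingAut A)} {p r : ℕ} (E : XC F H N p r)
include E

theorem exists_inv {s : ℕ} (hs : s.Prime) (h : s ≠ p) : ∃ ρ ∈ Subring.center A, ρ * s = 1 := by
  obtain ⟨a, b, e⟩ := Nat.isCoprime_iff_coprime.2 ((Nat.coprime_primes hs E.c.prime).2 h)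
  have h1 := congrArg (Int.cast : ℤ → A) e
  push_cast at h1
  rw [E.c.char, mul_zero, add_zero] at h1
  exact ⟨a, intCast_mem _ a, h1⟩

theorem ne_p : r ≠ p := fun h => E.σ.ne (Par.eq_bot_of_isPGroup E.c (le_inf E.le E.σ.le)
  (fun a ha => E.min.nrm a ha.1) (h ▸ E.σ.isPGroup))

theorem exists_rho : ∃ ρ ∈ Subring.center A, ρ * r = 1 := E.exists_inv E.σ.prime E.ne_p

theorem mem_H {x : A} (h : ad x ∈ F.S) (hn : ∀ ν ∈ N, ad x * ν * (ad x)⁻¹ ∈ N) : ad x ∈ H := by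
  have := Cyc.finAut (A := A)
  exact E.c.mem_of_norm (le_inf E.le E.σ.le) E.σ.ne E.min.nrm h (Subgroup.mem_normalizer_fintype hn)

open DS.Cl.Ext in
theorem root : (∀ u, Lf N u → ∃ c ∈ Subring.center A, Un c ∧ (c * u) ^ r = 1) ∨
    (r = 2 ∧ ¬ 4 ∣ Nat.card (Uh F N)) := by
  refine or_iff_not_imp_right.2 fun hQ => ?_
  have : Finite (Nh F N) := Finite.of_injective (fun u : Nh F N => ((u : Aˣ) : A))
    (Units.val_injective.comp Subtype.val_injective)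
  obtain ⟨f, hf⟩ := exists_res E.c.le E.min.nrm
  have hcj : ∀ (γ : RingAut A) (u v : Nh F N), γ (u : Aˣ) = (v : Aˣ) → γ * DS.Cl.cj A u * γ⁻¹ = DS.Cl.cj A v := by
    intro γ u v huv
    rw [DS.Cl.Ext.conj_cj]
    exact congrArg (DS.Cl.cj A) (Units.ext huv)
  obtain ⟨K, hK, hKU⟩ := E.σ.sty.exists_powSub hQ
  rcases E.min.min (K.map ((DS.Cl.cj A).comp (Nh F N).subtype)) (by rintro _ ⟨u, -, rfl⟩; exact u.2.1) (by
    rintro γ hγ _ ⟨u, hu, rfl⟩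
    refine ⟨f ⟨γ, hγ⟩ u, ?_, (hcj γ u _ (hf ⟨γ, hγ⟩ u).symm).symm⟩
    obtain ⟨c, hc, e⟩ := (hK u).1 hu
    refine (hK _).2 ⟨f ⟨γ, hγ⟩ c, ?_, by rw [← map_pow, e, map_pow]⟩
    rw [mem_Uh, hf]
    exact map_cen γ hc) with h1 | h1
  · refine absurd (fun u hu => ?_) hKU
    have h2 : DS.Cl.cj A u ∈ K.map ((DS.Cl.cj A).comp (Nh F N).subtype) := ⟨u, hu, rfl⟩
    rw [h1, Subgroup.mem_bot] at h2
    exact DS.Cl.Ext.cj_eq_one_iff.1 h2
  · intro x hx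
    have h2 := hx.2
    rw [← h1] at h2
    obtain ⟨k, hk, hkx⟩ := h2
    obtain ⟨c, hc, e⟩ := (hK k).1 hk
    obtain ⟨d, d1, d2, d3⟩ := (ad_eq_iff (a := ((k : Aˣ) : A)) (mul_star k) hx.1).1 ((ad_val _).trans hkx)
    have h3 : ((k : Aˣ) : A) ^ r = ((c : Aˣ) : A) ^ r := congrArg (fun z : Nh F N => ((z : Aˣ) : A)) e
    have h4 : Un ((c : Aˣ) : A) := mul_star c
    refine ⟨star ((c : Aˣ) : A) * d, Subring.mul_mem _ (star_cen hc) d1, h4.st.mul d2, ?_⟩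
    rw [mul_assoc, ← d3, Commute.mul_pow (cen_comm (star_cen hc) _).symm, h3, ← star_pow, (h4.pow r).sm]

theorem exists_cm {u v : A} (hu : Lf N u) (hv : Lf N v) : ∃ κ, Un κ ∧ κ ^ r = 1 ∧ Cm κ u v := by
  obtain ⟨κ, h1, h2, h3, h4⟩ := E.σ.exists_kap hu hv
  exact ⟨κ, h2, h3, h1, h4⟩

/-- **splitting off a non-commuting pair** -/
theorem split {u v w : A} (hu : Lf N u) (hv : Lf N v) (h : u * v ≠ v * u) (hw : Lf N w) :
    ∃ i < r, ∃ j < r, u ^ i * v ^ j * w * u = u * (u ^ i * v ^ j * w) ∧ u ^ i * v ^ j * w * v = v * (u ^ i * v ^ j * w) := by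
  obtain ⟨ρ, hρ, hρ'⟩ := E.exists_rho
  obtain ⟨ζ, a1, a2, a3⟩ := E.exists_cm hu hv
  have a4 : ζ ≠ 1 := fun h1 => h (a3.eq h1)
  obtain ⟨κ, b1, b2, b3⟩ := E.exists_cm hu hw
  obtain ⟨κ', c1, c2, c3⟩ := E.exists_cm hv hw
  obtain ⟨j, hj, e1⟩ := E.σ.exists_pow hρ hρ' a3.1 a1 a2 a4 b3.1 b1 b2
  obtain ⟨i, hi, e2⟩ := E.σ.exists_pow hρ hρ' (star_cen a3.1) a1.st (star_root a2 a4).1 (star_root a2 a4).2 c3.1 c1 c2
  exact ⟨i, hi, j, hj, (((((Cm.of_eq rfl).pow i).mul (a3.pow j)).mul b3).eq (by rw [one_pow, one_mul, e1])).symm,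
    (((((a3.symm a1).pow i).mul ((Cm.of_eq rfl).pow j)).mul c3).eq (by rw [one_pow, mul_one, e2])).symm⟩

variable {M : Subgroup (RingAut A)}

theorem split' (hM : M ≤ N) {u v w : A} (hu : Lf M u) (hv : Lf M v) (h : u * v ≠ v * u) (hw : Lf M w) :
    ∃ i < r, ∃ j < r, Lf (pp M u v) (u ^ i * v ^ j * w) := by
  obtain ⟨i, hi, j, hj, h1⟩ := E.split (lf_mono hM hu) (lf_mono hM hv) h (lf_mono hM hw)
  exact ⟨i, hi, j, hj, lf_pp.2 ⟨((hu.pow i).mul (hv.pow j)).mul hw, h1⟩⟩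

theorem exists_lf (hM : M ≤ N) {ν : RingAut A} (h : ν ∈ M) : ∃ a, Lf M a ∧ ad a = ν := by
  obtain ⟨a, ha, rfl⟩ := E.σ.exists_lf (hM h)
  exact ⟨a, ⟨ha.1, h⟩, rfl⟩

theorem nd_top : Nd N N := ⟨le_rfl, fun u _ hu => by
  by_contra h
  push Not at h
  exact hu (E.σ.cen_of h)⟩

theorem nd_pp (hM : Nd N M) {u v : A} (hu : Lf M u) (hv : Lf M v) (h : u * v ≠ v * u) : Nd N (pp M u v) := by
  refine ⟨pp_le.trans hM.le, fun z hz h0 => ?_⟩
  obtain ⟨a1, a2, a3⟩ := lf_pp.1 hz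
  obtain ⟨w, hw, h3⟩ := hM.nd z a1 h0
  obtain ⟨i, -, j, -, h4⟩ := E.split' hM.le hu hv h hw
  refine ⟨_, h4, fun h6 => h3 (((hu.pow i).mul (hv.pow j)).1.cancel ?_)⟩
  have h7 : Commute (u ^ i * v ^ j) z := ((show Commute u z from a2.symm).pow_left i).mul_left
    ((show Commute v z from a3.symm).pow_left j)
  rw [← mul_assoc, h6, ← mul_assoc, ← h7.eq, mul_assoc]

theorem exists_pair (hM : Nd N M) (h : M ≠ ⊥) : ∃ u v, Lf M u ∧ Lf M v ∧ u * v ≠ v * u := by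
  obtain ⟨x, hx, h1⟩ := (M.bot_or_exists_ne_one).resolve_left h
  obtain ⟨u, hu, rfl⟩ := E.exists_lf hM.le hx
  obtain ⟨v, hv, h2⟩ := hM.nd u hu fun h => h1 (ad_cen h)
  exact ⟨v, u, hv, hu, h2⟩

theorem card_St (hM : M ≤ N) {u v : A} (hv : Lf M v) (h : v * u ≠ u * v) : Nat.card ↥(M ⊓ St u) * r ≤ Nat.card M :=
  have := Cyc.finAut (A := A)
  card_mul_le E.σ.prime (E.σ.isPGroup.to_le hM) inf_le_left fun h1 => h ((ad_mem_St hv.1).1 (h1 hv.2).2)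

theorem card_pp (hM : M ≤ N) {u v : A} (hu : Lf M u) (hv : Lf M v) (h : u * v ≠ v * u) :
    Nat.card (pp M u v) * r ^ 2 ≤ Nat.card M := by
  have h1 := E.card_St hM hv h.symm
  have h2 := E.card_St (M := M ⊓ St u) (inf_le_left.trans hM) (v := u) ⟨hu.1, hu.2, (ad_mem_St hu.1).2 rfl⟩ h
  rw [pow_two, ← mul_assoc]
  exact (Nat.mul_le_mul_right _ h2).trans h1

theorem le_card_pp (hM : M ≤ N) {u v : A} (hu : Lf M u) (hv : Lf M v) (h : u * v ≠ v * u) :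
    Nat.card M ≤ Nat.card (pp M u v) * r ^ 2 := by
  have := Cyc.finAut (A := A)
  rw [pow_two, ← Nat.card_fin r, ← Nat.card_prod, ← Nat.card_prod]
  refine Nat.card_le_card_of_surjective (fun q : pp M u v × Fin r × Fin r =>
    (⟨_, M.mul_mem (M.inv_mem ((hu.pow q.2.1).mul (hv.pow q.2.2)).2) (pp_le q.1.2)⟩ : M)) fun ν => ?_
  obtain ⟨w, hw, e⟩ := E.exists_lf hM ν.2
  obtain ⟨i, hi, j, hj, h1⟩ := E.split' hM hu hv h hw
  refine ⟨(⟨_, h1.2⟩, ⟨i, hi⟩, ⟨j, hj⟩), Subtype.ext ?_⟩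
  change (ad (u ^ i * v ^ j))⁻¹ * ad (u ^ i * v ^ j * w) = _
  rw [ad_mul ((hu.pow i).mul (hv.pow j)).1 hw.1, e, inv_mul_cancel_left]

theorem exists_apply {ν : RingAut A} (hν : ν ∈ N) {x : A} (hx : Lf N x) : ∃ κ ∈ Subring.center A, ν x = κ * x := by
  obtain ⟨y, hy, rfl⟩ := E.σ.exists_lf hν
  obtain ⟨κ, h1, -, -, h2⟩ := E.σ.exists_kap hy hx
  exact ⟨κ, h1, by rw [ad_apply hy.1, h2, mul_assoc, mul_assoc, hy.1.ms, mul_one]⟩

theorem conj_ap {γ ν : RingAut A} (hγ : γ ∈ F.PI) (hν : ν ∈ N) {x : A} (hx : Lf N x) (h : γ * ad x = ad x * γ) :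
    (γ * ν * γ⁻¹) x = ν x := by
  obtain ⟨κ, h1, h2⟩ := E.exists_apply hν hx
  exact conj_apply (F.Aut_le_SAut (F.PI_le_Aut hγ)) (F.PI_le_Lin hγ) (F.PI_le_Lin (E.σ.le_PI hν)) hx.1 h h1 h2

theorem card_le_N {X : Subgroup (RingAut A)} (hX : X ≤ F.PI) (h : ∀ γ ∈ X, ∀ ν ∈ N, γ * ν = ν * γ) :
    Nat.card X ≤ Nat.card N := by
  have := Cyc.finAut (A := A)
  refine Subgroup.card_le_of_le fun γ hγ => ?_
  obtain ⟨g, hg, rfl⟩ := exists_of_PI (hX hγ)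
  exact E.σ.cent hg (h _ hγ)

/-- the order of a group of isometries -/
theorem card_le_aux (j : ℕ) : ∀ (M X : Subgroup (RingAut A)), Nd N M → Nat.card M ≤ r ^ (2 * j) → X ≤ F.PI →
    (∀ γ ∈ X, ∀ μ ∈ M, γ * μ * γ⁻¹ ∈ M) → (∀ ν ∈ N, ∃ μ ∈ M, ∀ γ ∈ X, γ * (μ * ν) = μ * ν * γ) →
    Nat.card X ≤ Nat.card N * r ^ (2 * j ^ 2 + j) := by
  have := Cyc.finAut (A := A)
  have hr := E.σ.prime.pos
  have h0 : ∀ (j : ℕ) (X : Subgroup (RingAut A)), X ≤ F.PI →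
      (∀ ν ∈ N, ∃ μ ∈ (⊥ : Subgroup (RingAut A)), ∀ γ ∈ X, γ * (μ * ν) = μ * ν * γ) →
      Nat.card X ≤ Nat.card N * r ^ (2 * j ^ 2 + j) := fun j X hX h =>
    (E.card_le_N hX fun γ hγ ν hν => by
      obtain ⟨μ, h1, h2⟩ := h ν hν
      rw [Subgroup.mem_bot] at h1
      simpa [h1] using h2 γ hγ).trans (Nat.le_mul_of_pos_right _ (pow_pos hr _))
  induction j with
  | zero =>
    intro M X _ h1 hX _ h3
    obtain rfl : M = ⊥ := Subgroup.card_le_one_iff_eq_bot _ |>.1 (by simpa using h1)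
    exact h0 0 X hX h3
  | succ j ih =>
    intro M X hM h1 hX h2 h3
    by_cases hb : M = ⊥
    · subst hb
      exact h0 _ X hX h3
    obtain ⟨x, y, hx, hy, h4⟩ := E.exists_pair hM hb
    have hx' := lf_mono hM.le hx
    have hy' := lf_mono hM.le hy
    have k1 := card_le_of_conj X (ad x) M fun γ hγ => h2 γ hγ _ hx.2
    have k2 := card_le_of_conj (cz X (ad x)) (ad y) ((fun μ => ad y * μ) '' (M ⊓ St x : Subgroup (RingAut A)))
      fun γ hγ => ⟨(ad y)⁻¹ * (γ * ad y * γ⁻¹), ⟨M.mul_mem (M.inv_mem hy.2) (h2 γ hγ.1 _ hy.2), by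
        change (ad y)⁻¹ ((γ * ad y * γ⁻¹) x) = x
        rw [E.conj_ap (hX hγ.1) hy'.2 hx' (mem_cz.1 hγ).2, ra_inv_apply]⟩, mul_inv_cancel_left _ _⟩
    rw [Set.ncard_image_of_injective _ (mul_right_injective _)] at k2
    have k3 := E.card_St hM.le hy h4.symm
    have k4 := E.card_pp hM.le hx hy h4
    have k5 := ih (pp M x y) (cz (cz X (ad x)) (ad y)) (E.nd_pp hM hx hy h4)
      (Nat.le_of_mul_le_mul_right (k4.trans (h1.trans_eq (by ring))) (pow_pos hr 2))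
      ((inf_le_left.trans inf_le_left).trans hX)
      (fun γ hγ μ hμ => ⟨⟨h2 γ hγ.1.1 μ hμ.1.1,
        (E.conj_ap (hX hγ.1.1) (hM.le hμ.1.1) hx' (mem_cz.1 hγ.1).2).trans hμ.1.2⟩,
        (E.conj_ap (hX hγ.1.1) (hM.le hμ.1.1) hy' (mem_cz.1 hγ).2).trans hμ.2⟩) fun ν hν => by
      obtain ⟨μ, h5, h6⟩ := h3 ν hν
      obtain ⟨w, hw, rfl⟩ := E.exists_lf hM.le h5
      obtain ⟨a, -, b, -, h7⟩ := E.split' hM.le hx hy h4 hw
      refine ⟨_, h7.2, fun γ hγ => ?_⟩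
      rw [ad_mul ((hx.pow a).mul (hy.pow b)).1 hw.1, ad_mul (hx.1.pow a) (hy.1.pow b), ad_pow hx.1, ad_pow hy.1,
        mul_assoc _ (ad w)]
      exact (((show Commute γ (ad x) from (mem_cz.1 hγ.1).2).pow_right a).mul_right
        ((show Commute γ (ad y) from (mem_cz.1 hγ).2).pow_right b)).mul_right (h6 γ hγ.1.1)
    change _ ≤ Nat.card M * _ at k1
    change _ ≤ Nat.card ↥(M ⊓ St x) * _ at k2
    refine Nat.le_of_mul_le_mul_right ?_ hr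
    calc Nat.card X * r ≤ Nat.card M * (Nat.card ↥(M ⊓ St x) * (Nat.card N * r ^ (2 * j ^ 2 + j))) * r :=
          Nat.mul_le_mul_right _ (k1.trans (Nat.mul_le_mul_left _ (k2.trans (Nat.mul_le_mul_left _ k5))))
      _ = Nat.card M * (Nat.card ↥(M ⊓ St x) * r) * (Nat.card N * r ^ (2 * j ^ 2 + j)) := by ring
      _ ≤ r ^ (2 * (j + 1)) * r ^ (2 * (j + 1)) * (Nat.card N * r ^ (2 * j ^ 2 + j)) :=
          Nat.mul_le_mul_right _ (Nat.mul_le_mul h1 (k3.trans h1))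
      _ = _ := by ring

/-- **the order of the normaliser** -/
theorem card_B {k : ℕ} (hk : Nat.card N = r ^ (2 * k)) : Nat.card ↥(H ⊓ F.S) ≤ r ^ (2 * k ^ 2 + 3 * k) :=
  (E.card_le_aux k N (H ⊓ F.S) E.nd_top hk.le (inf_le_right.trans F.S_le_PI) (fun γ hγ => E.min.nrm γ hγ.1)
    fun ν hν => ⟨ν⁻¹, N.inv_mem hν, fun γ _ => by simp⟩).trans_eq (by rw [hk]; ring)

theorem exists_k {n : ℕ} (hn : Nat.card N = n ^ 2) : ∃ k, n = r ^ k := by
  have : Fact r.Prime := ⟨E.σ.prime⟩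
  have := Cyc.finAut (A := A)
  obtain ⟨m, hm⟩ := IsPGroup.iff_card.1 E.σ.isPGroup
  obtain ⟨k, -, h⟩ := (Nat.dvd_prime_pow E.σ.prime).1 (show n ∣ r ^ m from hm ▸ hn ▸ dvd_pow_self n two_ne_zero)
  exact ⟨k, h⟩

/-! ### membership in `F.S`, criteria -/

theorem ps_mul {m : ℕ} {a b : A} (ha : Un a) (hb : Un b) (h1 : ad a ^ m ∈ F.S) (h2 : ad b ^ m ∈ F.S) :
    ad (a * b) ^ m ∈ F.S := by
  rw [F.S_eq] at h1 h2 ⊢
  rw [ad_mul ha hb]
  exact mul_pow_mem (E.σ.mem_PI ha) (E.σ.mem_PI hb) h1 h2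

omit E in
theorem exists_el {g : A} (hg : Un g) (h : ad g ∈ F.S) :
    ∃ (u : Aˣ) (hu : u ∈ Cyc.I0 F), DS.Cl.cj A u = ad g ∧ N2.cn (Cyc.el hu) ≤ Cyc.cU g := by
  obtain ⟨u, hu, e⟩ := h
  refine ⟨u, hu, e, (Cyc.cn_le hu).trans ((Cyc.cI_le_cU F u).trans_eq ?_)⟩
  have h1 : Un (u : A) := (F.comm_le_Iso hu).1
  exact Nat.card_congr (Equiv.subtypeEquivRight fun x => and_congr_right fun _ => by
    rw [eq_comm, ← ad_fix h1, ad_val, e, ad_fix hg, eq_comm])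

theorem gd_of {g : A} (hg : Un g) (h : ad g ∈ F.S) (hn : ∀ ν ∈ N, ad g * ν * (ad g)⁻¹ ∈ N) {c : ℕ} (hc : Cyc.cU g ≤ c)
    (h' : c ^ 3 * Nat.card ↥(H ⊓ F.S) ≤ Nat.card F.S) : Gd F H := by
  obtain ⟨u, hu, e, h1⟩ := exists_el hg h
  exact Cyc.gd_of_cn hu (e ▸ E.mem_H h hn) (h1.trans hc) h'

end XC

theorem cU_le_card {g : A} (P : A → Prop) (h : ∀ a, a * g = g * a → P a) : Cyc.cU g ≤ Nat.card {a // P a} :=
  Nat.card_le_card_of_injective (fun a => ⟨a.1, h _ a.2.2⟩) fun _ _ e => Subtype.ext (Subtype.mk.inj e)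

/-- **orbits on a subgroup**: the elements with the property `P` commute with `x` and have their support in `K` -/
theorem fx_K {F : FR A} {N : Subgroup (RingAut A)} {r : ℕ} (σ : Sit F N r) {x : A} (hx : Un x)
    {K : Subgroup (RingAut A)} (hK : K ≤ N) (hn : ∀ ν ∈ N, ad x * ν * (ad x)⁻¹ ∈ N)
    (hn' : ∀ ν ∈ K, ad x * ν * (ad x)⁻¹ ∈ K) {m : ℕ} (hm : m ≠ 0) (h : ad x ^ m = 1) (P : A → Prop)
    (hP : ∀ a b, P a → P b → P (a - b)) (h1 : ∀ a, P a → x * a = a * x)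
    (h2 : ∀ ν ∈ N, ν ∉ K → ∃ y, Lf N y ∧ ν y ≠ y ∧ ∀ a, P a → y * a = a * y) :
    ∃ t, Nat.card {a // P a} ≤ Nat.card (Subring.center A) ^ t ∧
      t * m = ∑ k ∈ Finset.range m, Nat.card (cN K (ad x ^ k)) := by
  classical
  have := Cyc.finAut (A := A)
  let _ : Fintype N := Fintype.ofFinite _
  obtain ⟨s, co, hs, hs', hc⟩ := σ.exists_co
  let π : Equiv.Perm N := Equiv.ofBijective (fun ν : N => ⟨_, hn _ ν.2⟩) (Finite.injective_iff_bijective.1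
    fun a b hab => Subtype.ext (mul_left_cancel (mul_right_cancel (congrArg Subtype.val hab))))
  let π' : Equiv.Perm K := Equiv.ofBijective (fun ν : K => ⟨_, hn' _ ν.2⟩) (Finite.injective_iff_bijective.1
    fun a b hab => Subtype.ext (mul_left_cancel (mul_right_cancel (congrArg Subtype.val hab))))
  have hπ : ∀ (k : ℕ) (ν : K), (((π' ^ k) ν : K) : RingAut A) = ad x ^ k * ν * (ad x ^ k)⁻¹ := by
    intro k
    induction k with
    | zero => intro ν; simp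
    | succ k ih =>
      intro ν
      rw [pow_succ', Equiv.Perm.mul_apply]
      change ad x * ((π' ^ k) ν : K) * (ad x)⁻¹ = _
      rw [ih, pow_succ']
      group
  obtain ⟨R, k1, k2⟩ := burnside π' hm (Equiv.ext fun ν => Subtype.ext (by rw [hπ, h]; simp))
  have h3 : ∀ ν, ∃ lam : Subring.center A, Un (lam : A) ∧ x * s ν * star x = lam * s (π ν) := fun ν =>
    Sit.exists_lam hs hs' (σ.lf_of_norm hx hn (hs ν)) (by
      rw [ad_mul (hx.mul (hs ν).1) hx.st, ad_mul hx (hs ν).1, ad_star hx, hs']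
      rfl)
  choose lam h3 h4 using h3
  refine ⟨R.card, ?_, k2.trans (Finset.sum_congr rfl fun k _ => ?_)⟩
  · rw [← Fintype.card_coe, ← Nat.card_eq_fintype_card, ← Nat.card_fun]
    refine Nat.card_le_card_of_injective (fun a : {a // P a} => fun ν : R => co a ⟨ν.1, hK ν.1.2⟩)
      fun a b hab => Subtype.ext ?_
    rw [← sub_eq_zero, ← co.map_eq_zero_iff]
    have ha := hP _ _ a.2 b.2
    have h0 : ∀ ν ∈ R, co (a - b) ⟨ν, hK ν.2⟩ = 0 := fun ν hν => by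
      rw [map_sub, Pi.sub_apply, sub_eq_zero]
      exact congrFun hab ⟨ν, hν⟩
    generalize (a : A) - b = a at ha h0
    funext ν
    by_cases hν : (ν : RingAut A) ∈ K
    · have h5 : ∀ ν : K, co a ⟨π' ν, hK (π' ν).2⟩ = 0 → co a ⟨ν, hK ν.2⟩ = 0 := fun ν hν => by
        have h6 := Sit.co_conj hc π lam h4 a ⟨ν, hK ν.2⟩
        rw [h1 a ha, mul_assoc, hx.ms, mul_one] at h6
        exact Subtype.ext ((h3 _).isUnit.mul_right_eq_zero.1 (congrArg Subtype.val (h6.symm.trans hν)))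
      obtain ⟨k, hk⟩ := k1 ⟨ν, hν⟩
      have h7 := h0 _ hk
      clear hk
      induction k with
      | zero => exact h7
      | succ k ih => exact ih (h5 _ (by rw [pow_succ'] at h7; exact h7))
    · obtain ⟨u, hu, h5, h6⟩ := h2 ν ν.2 hν
      have h7 : ∀ ν, ∃ lam : Subring.center A, Un (lam : A) ∧ u * s ν * star u = lam * s ν := fun ν =>
        Sit.exists_lam hs hs' ((hu.mul (hs ν)).mul hu.st) (by
          rw [ad_mul (hu.1.mul (hs ν).1) hu.1.st, ad_mul hu.1 (hs ν).1, ad_star hu.1, hs', σ.comm _ hu.2 _ ν.2,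
            mul_inv_cancel_right])
      choose lam' h7 h8 using h7
      have h9 : (lam' ν : A) ≠ 1 := fun e => h5 (by
        have h3 := h8 ν
        rw [e, one_mul, ← ad_apply hu.1, ad_fix hu.1] at h3
        rw [← hs', ad_fix (hs ν).1, h3])
      have h10 := Sit.co_conj hc 1 lam' h8 a ν
      rw [h6 a ha, mul_assoc, hu.1.ms, mul_one] at h10
      refine Subtype.ext ((σ.sub_unit (lam' ν).2 (h7 ν) (Subring.one_mem _) Un.one h9).mul_right_eq_zero.1 ?_)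
      rw [sub_mul, sub_eq_zero, one_mul]
      exact (congrArg Subtype.val h10).symm
  · rw [← TH.In.card_sub (G := K) (Y := cN K (ad x ^ k)) inf_le_left]
    refine Nat.card_congr (Equiv.subtypeEquivRight fun ν => ?_)
    rw [Subgroup.mem_subgroupOf, mem_cN, Subtype.ext_iff, hπ, mul_inv_eq_iff_eq_mul, and_iff_right ν.2]

end Cfsg.Agent.N2C.Ext
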