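import Cfsg.Agent.N2.Cl.Ext.Two

/-!
# N2 (S3519), class `pExt`: dimension eight (helper22)
-/

set_option autoImplicit false
set_option linter.unusedSectionVars false

namespace Cfsg.Agent.N2C.Ext

open Cfsg.Agent.DS.Cl Cfsg.Agent.DS.Cl.Fwd Cfsg.Agent.SB.Cl Cfsg.Agent.TH.Cl.Ext

variable {A : Type} [Ring A] [StarRing A] [Finite A]

/-- coordinates in a plane -/
abbrev P2 : Type := Fin 2 × Fin 2

/-- words in a plane -/
def w2 (x y : A) (s : P2) : A := x ^ (s.1 : ℕ) * y ^ (s.2 : ℕ)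

/-- the quadratic form of a plane -/
def q2 (δ : ℕ) (s : P2) : ℕ := if s.2 = 0 then s.1 else δ

section plane

variable {M : Subgroup (RingAut A)} {x y u : A}

theorem lf_w2 (k : Pl M x y) (s : P2) : Lf M (w2 x y s) := (k.la.pow _).mul (k.lb.pow _)

theorem comm_w2 (h1 : Commute u x) (h2 : Commute u y) (s : P2) : Commute u (w2 x y s) :=
  (h1.pow_right _).mul_right (h2.pow_right _)

theorem sq_w2 (k : Pl M x y) {δ : ℕ} (h : y * y = (-1) ^ δ) (s : P2) : w2 x y s * w2 x y s = (-1) ^ q2 δ s := by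
  have h1 : x * y * (x * y) = (-1) ^ δ := by
    rw [mul_assoc, ← mul_assoc y, k.ba, neg_mul, mul_assoc, h, mul_neg, ← mul_assoc, k.aa, neg_one_mul, neg_neg]
  obtain ⟨a, b⟩ := s
  fin_cases a <;> fin_cases b <;> simp [w2, q2, k.aa, h, h1]

theorem neg_one_cen : (-1 : A) ∈ Subring.center A := Subring.neg_mem _ (Subring.one_mem _)

theorem cm_x (k : Pl M x y) (s : P2) : Cm ((-1) ^ (s.2 : ℕ)) x (w2 x y s) := by
  have h := ((Cm.of_eq (rfl : x * x = x * x)).pow s.1).mul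
    ((show Cm (-1) x y from ⟨neg_one_cen, by rw [k.ba, neg_one_mul, neg_neg]⟩).pow s.2)
  rwa [one_pow, one_mul] at h

theorem cm_y (k : Pl M x y) (s : P2) : Cm ((-1) ^ (s.1 : ℕ)) y (w2 x y s) := by
  have h := ((show Cm (-1) y x from ⟨neg_one_cen, by rw [k.ba, neg_one_mul]⟩).pow s.1).mul
    ((Cm.of_eq (rfl : y * y = y * y)).pow s.2)
  rwa [one_pow, mul_one] at h

theorem cm_l {κ v w : A} (h : Cm κ u v) (h' : Commute u w) : Cm κ u (w * v) := by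
  simpa using (Cm.of_eq h'.eq).mul h

theorem cm_r {κ v w : A} (h : Cm κ u v) (h' : Commute u w) : Cm κ u (v * w) := by
  simpa using h.mul (Cm.of_eq h'.eq)

theorem sign_eq [Nontrivial A] {h : A} (hh : Hf h) {m n : ℕ} (e : (-1 : A) ^ m = (-1) ^ n) : m % 2 = n % 2 := by
  have h1 : (1 : A) ≠ -1 := fun e => one_ne_zero (hh.eq_zero e)
  rcases Nat.even_or_odd m with h2 | h2 <;> rcases Nat.even_or_odd n with h3 | h3 <;>
    rw [h2.neg_one_pow, h3.neg_one_pow] at e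
  · rw [Nat.even_iff.1 h2, Nat.even_iff.1 h3]
  · exact absurd e h1
  · exact absurd e.symm h1
  · rw [Nat.odd_iff.1 h2, Nat.odd_iff.1 h3]

theorem cm_eq [Nontrivial A] {h : A} (hh : Hf h) {v : A} (hu : Un u) (hv : Un v) {a b : Fin 2}
    (h1 : Cm ((-1) ^ (a : ℕ)) u v) (h2 : Cm ((-1) ^ (b : ℕ)) u v) : a = b := by
  have h3 := sign_eq hh ((hv.mul hu).cancel' (h1.2.symm.trans h2.2))
  omega

end plane

/-- three planes -/
structure Tr (N : Subgroup (RingAut A)) (i j a b c d : A) (δ : ℕ) : Prop where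
  q : Pl N i j
  k : Pl (pp N i j) a b
  l : Pl (pp (pp N i j) a b) c d
  jj : j * j = -1
  bb : b * b = -1
  dd : d * d = (-1) ^ δ
  le : δ ≤ 1

/-- words in three planes -/
def w6 (i j a b c d : A) (v : P2 × P2 × P2) : A := w2 c d v.2.2 * (w2 a b v.2.1 * w2 i j v.1)

/-- the quadratic form -/
def q6 (δ : ℕ) (v : P2 × P2 × P2) : ℕ := q2 δ v.2.2 + (q2 1 v.2.1 + q2 1 v.1)

namespace Tr

variable {N : Subgroup (RingAut A)} {i j a b c d : A} {δ : ℕ} (t : Tr N i j a b c d δ)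
include t

theorem k' : Pl N a b := t.k.mono pp_le
theorem l' : Pl N c d := t.l.mono (pp_le.trans pp_le)
theorem ai : Commute a i := (lf_pp.1 t.k.la).2.1
theorem aj : Commute a j := (lf_pp.1 t.k.la).2.2
theorem bi : Commute b i := (lf_pp.1 t.k.lb).2.1
theorem bj : Commute b j := (lf_pp.1 t.k.lb).2.2
theorem ci : Commute c i := (lf_pp.1 (lf_pp.1 t.l.la).1).2.1
theorem cj : Commute c j := (lf_pp.1 (lf_pp.1 t.l.la).1).2.2
theorem di : Commute d i := (lf_pp.1 (lf_pp.1 t.l.lb).1).2.1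
theorem dj : Commute d j := (lf_pp.1 (lf_pp.1 t.l.lb).1).2.2
theorem ca : Commute c a := (lf_pp.1 t.l.la).2.1
theorem cb : Commute c b := (lf_pp.1 t.l.la).2.2
theorem da : Commute d a := (lf_pp.1 t.l.lb).2.1
theorem db : Commute d b := (lf_pp.1 t.l.lb).2.2

theorem lf (v : P2 × P2 × P2) : Lf N (w6 i j a b c d v) := (lf_w2 t.l' _).mul ((lf_w2 t.k' _).mul (lf_w2 t.q _))

theorem sq (v : P2 × P2 × P2) : w6 i j a b c d v * w6 i j a b c d v = (-1) ^ q6 δ v := by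
  have h1 : Commute (w2 i j v.1) (w2 a b v.2.1) := comm_w2 (comm_w2 t.ai t.aj _).symm (comm_w2 t.bi t.bj _).symm _
  have h2 : Commute (w2 a b v.2.1 * w2 i j v.1) (w2 c d v.2.2) :=
    comm_w2 ((comm_w2 t.ca t.cb _).mul_right (comm_w2 t.ci t.cj _)).symm
      ((comm_w2 t.da t.db _).mul_right (comm_w2 t.di t.dj _)).symm _
  rw [w6, h2.mul_mul_mul_comm, h1.mul_mul_mul_comm, sq_w2 t.l t.dd, sq_w2 t.k (δ := 1) (by rw [t.bb, pow_one]),
    sq_w2 t.q (δ := 1) (by rw [t.jj, pow_one]), q6, pow_add, pow_add]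

theorem cmi (v : P2 × P2 × P2) : Cm ((-1) ^ (v.1.2 : ℕ)) i (w6 i j a b c d v) :=
  cm_l (cm_l (cm_x t.q _) (comm_w2 t.ai.symm t.bi.symm _)) (comm_w2 t.ci.symm t.di.symm _)

theorem cmj (v : P2 × P2 × P2) : Cm ((-1) ^ (v.1.1 : ℕ)) j (w6 i j a b c d v) :=
  cm_l (cm_l (cm_y t.q _) (comm_w2 t.aj.symm t.bj.symm _)) (comm_w2 t.cj.symm t.dj.symm _)

theorem cma (v : P2 × P2 × P2) : Cm ((-1) ^ (v.2.1.2 : ℕ)) a (w6 i j a b c d v) :=
  cm_l (cm_r (cm_x t.k _) (comm_w2 t.ai t.aj _)) (comm_w2 t.ca.symm t.da.symm _)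

theorem cmb (v : P2 × P2 × P2) : Cm ((-1) ^ (v.2.1.1 : ℕ)) b (w6 i j a b c d v) :=
  cm_l (cm_r (cm_y t.k _) (comm_w2 t.bi t.bj _)) (comm_w2 t.cb.symm t.db.symm _)

theorem cmc (v : P2 × P2 × P2) : Cm ((-1) ^ (v.2.2.2 : ℕ)) c (w6 i j a b c d v) :=
  cm_r (cm_x t.l _) ((comm_w2 t.ca t.cb _).mul_right (comm_w2 t.ci t.cj _))

end Tr

namespace XC

variable {F : FR A} {H N : Subgroup (RingAut A)} {p : ℕ} (E : XC F H N p 2)
include E

theorem exists_tr (hN : 16 < Nat.card N) : ∃ i j a b c d δ, Tr N i j a b c d δ := by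
  have := E.σ.ss.nontrivial
  obtain ⟨h, hh⟩ := E.exists_hf
  obtain ⟨i, j, q, jj⟩ := E.exists_q E.nd_top (by omega)
  have n1 := E.nd_pp E.nd_top q.la q.lb (q.ne hh)
  have l1 := E.le_card_pp le_rfl q.la q.lb (q.ne hh)
  obtain ⟨a, b, k, bb⟩ := E.exists_q n1 (by omega)
  obtain ⟨c, d, l⟩ := E.exists_pl (E.nd_pp n1 k.la k.lb (k.ne hh)) (E.pp_ne n1.le k (by omega))
  rcases l.bb with e | e
  · exact ⟨i, j, a, b, c, d, 0, q, k, l, jj, bb, by rw [e, pow_zero], by norm_num⟩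
  · exact ⟨i, j, a, b, c, d, 1, q, k, l, jj, bb, by rw [e, pow_one], le_rfl⟩

omit E in
theorem cen_of_bot {M : Subgroup (RingAut A)} (h : Nat.card M ≤ 1) {u : A} (hu : Lf M u) : u ∈ Subring.center A :=
  (ad_eq_one_iff hu.1).1 (Subgroup.mem_bot.1 ((Subgroup.card_le_one_iff_eq_bot _).1 h ▸ hu.2))

/-- **three planes: a cyclic element** -/
theorem two_eight (hN : Nat.card N = 64) : ∃ g, Un g ∧ ad g ∈ F.S ∧ (∀ ν ∈ N, ad g * ν * (ad g)⁻¹ ∈ N) ∧ Cyc.IsCyc g ∧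
    Cyc.cA g ≤ Nat.card (Subring.center A) ^ 8 ∧ (∃ θ, θ * g = g * θ ∧ IsUnit (θ - star θ)) ∧
    ∃ s, s * g = g * s ∧ star s = s ∧ s * s = 1 + 1 := by
  have := Cyc.finAut (A := A)
  have := E.σ.ss.nontrivial
  obtain ⟨h, hh⟩ := E.exists_hf
  obtain ⟨i, j, a, b, c, d, δ, t⟩ := E.exists_tr (by omega)
  have z := t.q.qz t.jj t.ai t.aj
  have o1 := z.un_oo hh
  obtain ⟨g, w, g1, g2, g3, g4, g5, g6, g7, g8⟩ := E.exists_g hh t.k' t.l' t.q.lb t.jj t.ca.symm t.da.symm t.cb.symm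
    t.db.symm t.aj.symm t.bj.symm t.cj.symm t.dj.symm o1 (E.oo_S hh t.k'.la t.k.aa z)
    (tt_oo h i j ▸ E.nm_tt hh t.q.la t.q.lb t.q.aa t.jj)
    (by rw [← ad_pow o1, pow_three, z.oo_cube hh, ad_neg Un.one, ad_one]) (E.comm_oo hh t.q t.jj t.ai t.aj)
    (E.comm_oo hh t.q t.jj t.bi t.bj) (E.comm_oo hh t.q t.jj t.ci t.cj) (E.comm_oo hh t.q t.jj t.di t.dj)
  have k4 := E.card_pp le_rfl t.k'.la t.k'.lb (t.k.ne hh)
  have k5 := E.card_pp (M := pp N a b) pp_le (lf_pp.2 ⟨t.l'.la, t.ca, t.cb⟩) (lf_pp.2 ⟨t.l'.lb, t.da, t.db⟩) (t.l.ne hh)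
  have m1 : Lf (pp (pp N a b) c d) i := lf_pp.2 ⟨lf_pp.2 ⟨t.q.la, t.ai.symm, t.bi.symm⟩, t.ci.symm, t.di.symm⟩
  have m2 : Lf (pp (pp N a b) c d) j := lf_pp.2 ⟨lf_pp.2 ⟨t.q.lb, t.aj.symm, t.bj.symm⟩, t.cj.symm, t.dj.symm⟩
  have k6 := E.card_pp (pp_le.trans pp_le) m1 m2 (t.q.ne hh)
  have g9 : ∀ x, Commute (oo h i j) x ∧ Commute a x ∧ Commute b x ∧ Commute c x ∧ Commute d x →
      ∃ p q, p ∈ Subring.center A ∧ q ∈ Subring.center A ∧ x = p + q * oo h i j := fun x hx => by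
    obtain ⟨y0, y1, y2, y3, c0, c1, c2, c3, e⟩ := ind_K E.σ (E.supp t.k' t.l' hx.2.1 hx.2.2.1 hx.2.2.2.1 hx.2.2.2.2)
      (P := fun x => ∃ y0 y1 y2 y3, y0 ∈ Subring.center A ∧ y1 ∈ Subring.center A ∧ y2 ∈ Subring.center A ∧
        y3 ∈ Subring.center A ∧ x = y0 + y1 * i + y2 * j + y3 * (i * j))
      ⟨0, 0, 0, 0, zero_mem _, zero_mem _, zero_mem _, zero_mem _, by simp⟩ (by
        rintro _ _ ⟨y0, y1, y2, y3, c0, c1, c2, c3, rfl⟩ ⟨y0', y1', y2', y3', c0', c1', c2', c3', rfl⟩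
        exact ⟨_, _, _, _, add_mem c0 c0', add_mem c1 c1', add_mem c2 c2', add_mem c3 c3', by
          simp only [add_mul]; abel⟩) fun e he u hu => by
        obtain ⟨m, hm, n, hn, h1⟩ := E.split' (pp_le.trans pp_le) m1 m2 (t.q.ne hh) hu
        have h2 := cen_of_bot (by omega) h1
        have h3 : e * u = e * (i ^ m * j ^ n * u) * star (i ^ m * j ^ n) := by
          rw [mul_assoc, ← cen_comm h2, ← mul_assoc (star _), ((m1.pow m).mul (m2.pow n)).1.sm, one_mul]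
        have h4 := Subring.mul_mem _ he h2
        rw [h3]
        generalize e * (i ^ m * j ^ n * u) = y at h4
        have h5 := Subring.neg_mem _ h4
        interval_cases m <;> interval_cases n
        · exact ⟨y, 0, 0, 0, h4, zero_mem _, zero_mem _, zero_mem _, by simp⟩
        · exact ⟨0, 0, -y, 0, zero_mem _, zero_mem _, h5, zero_mem _, by simp [z.sb]⟩
        · exact ⟨0, -y, 0, 0, zero_mem _, h5, zero_mem _, zero_mem _, by simp [z.sa]⟩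
        · exact ⟨0, 0, 0, -y, zero_mem _, zero_mem _, zero_mem _, h5, by rw [pow_one, pow_one, z.sc]; simp⟩
    have out : ∀ {y}, y ∈ Subring.center A → ∀ u v, u * (y * v) = y * (u * v) := fun hy u v => by
      rw [← mul_assoc, cen_comm hy, mul_assoc]
    have h1 : (y3 - y1) * i + (y1 - y2) * j + (y2 - y3) * (i * j) = 0 := by
      have h2 := hx.1.eq
      rw [e, mul_add, mul_add, mul_add, out c1, out c2, out c3, z.oo_a hh, z.oo_b hh, z.oo_c hh, cen_comm c0] at h2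
      refine o1.cancel' ?_
      rw [zero_mul, ← sub_eq_zero.2 h2]
      noncomm_ring
    have h2 : ∀ {i j y1 y2 y3 : A}, Qz N a i j → y1 ∈ Subring.center A → y2 ∈ Subring.center A → y3 ∈ Subring.center A →
        y1 * i + y2 * j + y3 * (i * j) = 0 → y1 = 0 := fun {i j y1 y2 y3} z c1 c2 c3 e => by
      have h3 : i * (y1 * i + y2 * j + y3 * (i * j)) + (y1 * i + y2 * j + y3 * (i * j)) * i = -(y1 + y1) := by
        rw [mul_add, mul_add, out c1, out c2, out c3, add_mul, add_mul, mul_assoc, mul_assoc, mul_assoc, mul_assoc i j,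
          z.ba, z.aa, mul_neg i]
        noncomm_ring
      rw [e, mul_zero, zero_mul, add_zero, eq_comm, neg_eq_zero] at h3
      rw [← hh.dbl y1, h3, mul_zero]
    have h3 := sub_eq_zero.1 (h2 z (sub_mem c3 c1) (sub_mem c1 c2) (sub_mem c2 c3) h1)
    have h4 := sub_eq_zero.1 (h2 z.rot (sub_mem c1 c2) (sub_mem c2 c3) (sub_mem c3 c1) (by rw [z.bab, ← h1]; abel))
    refine ⟨y0 - y1, y1 + y1, sub_mem c0 c1, add_mem c1 c1, ?_⟩
    rw [e, h3, ← h4, oo, ← mul_assoc (y1 + y1), cen_comm hh.cen (y1 + y1), hh.dbl]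
    noncomm_ring
  refine ⟨g, g1, g2, g3, fun x y hx hy => ?_, ?_, ⟨a, g4, ?_⟩, g5⟩
  · obtain ⟨y1, y2, y3⟩ := g6 y hy
    have h1 : ∀ x, Commute (oo h i j) x ∧ Commute a x ∧ Commute b x ∧ Commute c x ∧ Commute d x → Commute x y :=
      fun x hx => by
        obtain ⟨p, q, p1, q1, rfl⟩ := g9 x hx
        exact (show Commute p y from (cen_comm p1 y).symm).add_left
          ((show Commute q y from (cen_comm q1 y).symm).mul_left y1)
    have h2 : ∀ x, Commute (oo h i j) x ∧ Commute a x ∧ Commute b x ∧ Commute w x → Commute x y := fun x hx => by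
      obtain ⟨p, q, p1, q1, rfl⟩ := g8 x hx
      exact (h1 p p1).add_left ((h1 q q1).mul_left y3)
    obtain ⟨p, q, p1, q1, rfl⟩ := g7 x (g6 x hx)
    exact (h2 p p1).add_left ((h2 q q1).mul_left y2)
  · refine le_trans ?_ ((card_le_sq g7).trans ?_)
    · exact Nat.card_le_card_of_injective (fun x => ⟨x.1, g6 _ x.2⟩) fun _ _ e => Subtype.ext (congrArg (·.1) e)
    rw [show 8 = 2 * 2 * 2 from rfl, pow_mul, pow_mul]
    exact Nat.pow_le_pow_left ((card_le_sq g8).trans (Nat.pow_le_pow_left (card_le_sq g9) 2)) 2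
  · rw [star_of_sq t.k.la.1 t.k.aa, sub_neg_eq_add]
    exact IsUnit.of_mul_eq_one_right (star a * h) (by rw [mul_assoc, hh.dbl, t.k.la.1.sm])

section count

variable {i j a b c d : A} {δ : ℕ} (t : Tr N i j a b c d δ) (hN : Nat.card N = 64)
  (hU : ∀ c ∈ Subring.center A, Un c → c * c = 1)
include t hN

theorem exists_w6 {u : A} (hu : Lf N u) : ∃ v, ad u = ad (w6 i j a b c d v) := by
  have := E.σ.ss.nontrivial
  obtain ⟨h, hh⟩ := E.exists_hf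
  obtain ⟨m1, a1, n1, b1, h1⟩ := E.split' le_rfl t.q.la t.q.lb (t.q.ne hh) hu
  obtain ⟨m2, a2, n2, b2, h2⟩ := E.split' pp_le t.k.la t.k.lb (t.k.ne hh) h1
  obtain ⟨m3, a3, n3, b3, h3⟩ := E.split' (pp_le.trans pp_le) t.l.la t.l.lb (t.l.ne hh) h2
  have k1 := E.card_pp le_rfl t.q.la t.q.lb (t.q.ne hh)
  have k2 := E.card_pp pp_le t.k.la t.k.lb (t.k.ne hh)
  have k3 := E.card_pp (pp_le.trans pp_le) t.l.la t.l.lb (t.l.ne hh)
  have h4 := ad_cen (cen_of_bot (by omega) h3)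
  refine ⟨((⟨m1, a1⟩, ⟨n1, b1⟩), (⟨m2, a2⟩, ⟨n2, b2⟩), (⟨m3, a3⟩, ⟨n3, b3⟩)), ?_⟩
  have h5 := t.lf ((⟨m1, a1⟩, ⟨n1, b1⟩), (⟨m2, a2⟩, ⟨n2, b2⟩), (⟨m3, a3⟩, ⟨n3, b3⟩))
  rw [← mul_assoc (a ^ m2 * b ^ n2), ← mul_assoc (c ^ m3 * d ^ n3)] at h4
  have h6 := (ad_mul h5.1 hu.1).symm.trans h4
  rw [← inv_eq_of_mul_eq_one_right h6, inv_eq_iff_mul_eq_one, ← pow_two, E.σ.exp _ h5.2]

include hU

theorem step {X : Subgroup (RingAut A)} (hX : X ≤ H ⊓ F.S) {e : A} (he : Lf N e) {n : ℕ} (ee : e * e = (-1) ^ n)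
    (T : Finset (P2 × P2 × P2)) (hT : ∀ γ ∈ X, ∀ v, q6 δ v % 2 = n % 2 → (∀ u (s s' : Fin 2), Lf N u → γ * ad u = ad u * γ →
      Cm ((-1) ^ (s : ℕ)) u e → Cm ((-1) ^ (s' : ℕ)) u (w6 i j a b c d v) → s' = s) → v ∈ T) :
    Nat.card X ≤ T.card * Nat.card (cz X (ad e)) := by
  have := Cyc.finAut (A := A)
  have := E.σ.ss.nontrivial
  obtain ⟨h, hh⟩ := E.exists_hf
  refine (card_le_of_conj X (ad e) ((fun v => ad (w6 i j a b c d v)) '' T) fun γ hγ => ?_).trans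
    (Nat.mul_le_mul_right _ ((Set.ncard_image_le T.finite_toSet).trans (Set.ncard_coe_finset T).le))
  have h1 := F.Aut_le_SAut (F.S_le_Aut (hX hγ).2)
  have h2 := F.PI_le_Lin (F.S_le_PI (hX hγ).2)
  have h3 := he.map h1 (E.min.nrm γ (hX hγ).1)
  obtain ⟨v, hv⟩ := E.exists_w6 t hN h3
  obtain ⟨l, l1, l2, l3⟩ := (ad_eq_iff h3.1 (t.lf v).1).1 hv
  refine ⟨v, hT γ hγ v (sign_eq hh ?_) fun u s s' hu c1 c2 c3 => cm_eq hh hu.1 (t.lf v).1 c3 ⟨c2.1, ?_⟩,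
    by rw [conj_ad γ he.1, hv]⟩
  · have h4 : γ e * γ e = w6 i j a b c d v * w6 i j a b c d v := by rw [l3, cen_mul_mul l1, hU l l1 l2, one_mul]
    rw [← t.sq, ← h4, ← map_mul, ee, map_pow, map_neg, map_one]
  · obtain ⟨m, m1, m2, m3⟩ := (ad_eq_iff (hu.1.map h1) hu.1).1 (by rw [← conj_ad γ hu.1, c1, mul_inv_cancel_right])
    have h4 := congrArg γ c2.2
    rw [map_mul, map_mul, map_mul, h2 _ c2.1, l3, m3, cen_mul_mul l1, cen_mul_mul m1, cen_comm m1 l] at h4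
    refine (m2.mul l2).cancel (h4.trans ?_)
    rw [← mul_assoc, ← cen_comm c2.1, mul_assoc]

/-- **the order of the normaliser in dimension eight** -/
theorem card_eight : Nat.card ↥(H ⊓ F.S) ≤ 64 * 51840 := by
  have n1 : (-1 : A) = (-1) ^ 1 := (pow_one _).symm
  have o : ∀ {u e : A}, Commute e u → Cm ((-1) ^ ((0 : Fin 2) : ℕ)) u e := fun h => by simpa using Cm.of_eq h.symm
  have m : ∀ {M} {u e : A}, Pl M u e → Cm ((-1) ^ ((1 : Fin 2) : ℕ)) u e := fun h =>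
    ⟨by simp, by simp [h.ba]⟩
  have s1 := E.step t hN hU le_rfl t.q.la (t.q.aa.trans n1) (Finset.univ.filter fun v => q6 δ v % 2 = 1)
    fun γ _ v h1 _ => Finset.mem_filter.2 ⟨Finset.mem_univ _, h1⟩
  have s2 := E.step t hN hU (X := cz (H ⊓ F.S) (ad i)) inf_le_left t.q.lb (t.jj.trans n1)
    (Finset.univ.filter fun v => q6 δ v % 2 = 1 ∧ v.1.2 = 1) fun γ hγ v h1 h2 => Finset.mem_filter.2 ⟨Finset.mem_univ _,
      h1, h2 i _ _ t.q.la (mem_cz.1 hγ).2 (m t.q) (t.cmi v)⟩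
  have s3 := E.step t hN hU (X := cz (cz (H ⊓ F.S) (ad i)) (ad j)) (inf_le_left.trans inf_le_left) t.k'.la
    (t.k.aa.trans n1) (Finset.univ.filter fun v => q6 δ v % 2 = 1 ∧ v.1.2 = 0 ∧ v.1.1 = 0) fun γ hγ v h1 h2 =>
      Finset.mem_filter.2 ⟨Finset.mem_univ _, h1, h2 i _ _ t.q.la (mem_cz.1 hγ.1).2 (o t.ai) (t.cmi v),
        h2 j _ _ t.q.lb (mem_cz.1 hγ).2 (o t.aj) (t.cmj v)⟩
  have s4 := E.step t hN hU (X := cz (cz (cz (H ⊓ F.S) (ad i)) (ad j)) (ad a))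
    (inf_le_left.trans (inf_le_left.trans inf_le_left)) t.k'.lb
    (t.bb.trans n1) (Finset.univ.filter fun v => q6 δ v % 2 = 1 ∧ v.1.2 = 0 ∧ v.1.1 = 0 ∧ v.2.1.2 = 1) fun γ hγ v h1 h2 =>
      Finset.mem_filter.2 ⟨Finset.mem_univ _, h1, h2 i _ _ t.q.la (mem_cz.1 hγ.1.1).2 (o t.bi) (t.cmi v),
        h2 j _ _ t.q.lb (mem_cz.1 hγ.1).2 (o t.bj) (t.cmj v), h2 a _ _ t.k'.la (mem_cz.1 hγ).2 (m t.k) (t.cma v)⟩
  have s5 := E.step t hN hU (X := cz (cz (cz (cz (H ⊓ F.S) (ad i)) (ad j)) (ad a)) (ad b))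
    (inf_le_left.trans (inf_le_left.trans (inf_le_left.trans inf_le_left))) t.l'.la (t.l.aa.trans n1)
    (Finset.univ.filter fun v => q6 δ v % 2 = 1 ∧ v.1.2 = 0 ∧ v.1.1 = 0 ∧ v.2.1.2 = 0 ∧ v.2.1.1 = 0) fun γ hγ v h1 h2 =>
      Finset.mem_filter.2 ⟨Finset.mem_univ _, h1, h2 i _ _ t.q.la (mem_cz.1 hγ.1.1.1).2 (o t.ci) (t.cmi v),
        h2 j _ _ t.q.lb (mem_cz.1 hγ.1.1).2 (o t.cj) (t.cmj v), h2 a _ _ t.k'.la (mem_cz.1 hγ.1).2 (o t.ca) (t.cma v),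
        h2 b _ _ t.k'.lb (mem_cz.1 hγ).2 (o t.cb) (t.cmb v)⟩
  have s6 := E.step t hN hU (X := cz (cz (cz (cz (cz (H ⊓ F.S) (ad i)) (ad j)) (ad a)) (ad b)) (ad c))
    (inf_le_left.trans (inf_le_left.trans (inf_le_left.trans (inf_le_left.trans inf_le_left)))) t.l'.lb t.dd
    (Finset.univ.filter fun v => q6 δ v % 2 = δ % 2 ∧ v.1.2 = 0 ∧ v.1.1 = 0 ∧ v.2.1.2 = 0 ∧ v.2.1.1 = 0 ∧ v.2.2.2 = 1)
    fun γ hγ v h1 h2 =>
      Finset.mem_filter.2 ⟨Finset.mem_univ _, h1, h2 i _ _ t.q.la (mem_cz.1 hγ.1.1.1.1).2 (o t.di) (t.cmi v),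
        h2 j _ _ t.q.lb (mem_cz.1 hγ.1.1.1).2 (o t.dj) (t.cmj v), h2 a _ _ t.k'.la (mem_cz.1 hγ.1.1).2 (o t.da) (t.cma v),
        h2 b _ _ t.k'.lb (mem_cz.1 hγ.1).2 (o t.db) (t.cmb v), h2 c _ _ t.l'.la (mem_cz.1 hγ).2 (m t.l) (t.cmc v)⟩
  have s7 := E.card_le_N (X := cz (cz (cz (cz (cz (cz (H ⊓ F.S) (ad i)) (ad j)) (ad a)) (ad b)) (ad c)) (ad d))
    (fun γ hγ => F.S_le_PI hγ.1.1.1.1.1.1.2) fun γ hγ ν hν => by
      obtain ⟨u, hu, rfl⟩ := E.σ.exists_lf hν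
      obtain ⟨v, hv⟩ := E.exists_w6 t hN hu
      have k : ∀ {M} {x y : A}, Pl M x y → Commute γ (ad x) → Commute γ (ad y) → ∀ s, Commute γ (ad (w2 x y s)) :=
        fun k h1 h2 s => by
          rw [w2, ad_mul (k.la.1.pow _) (k.lb.1.pow _), ad_pow k.la.1, ad_pow k.lb.1]
          exact (h1.pow_right _).mul_right (h2.pow_right _)
      rw [hv, w6, ad_mul (lf_w2 t.l _).1 ((lf_w2 t.k _).1.mul (lf_w2 t.q _).1), ad_mul (lf_w2 t.k _).1 (lf_w2 t.q _).1]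
      exact (k t.l (mem_cz.1 hγ.1).2 (mem_cz.1 hγ).2 _).mul_right
        ((k t.k (mem_cz.1 hγ.1.1.1).2 (mem_cz.1 hγ.1.1).2 _).mul_right
          (k t.q (mem_cz.1 hγ.1.1.1.1.1).2 (mem_cz.1 hγ.1.1.1.1).2 _))
  rw [hN] at s7
  refine (s1.trans (Nat.mul_le_mul_left _ (s2.trans (Nat.mul_le_mul_left _ (s3.trans (Nat.mul_le_mul_left _
    (s4.trans (Nat.mul_le_mul_left _ (s5.trans (Nat.mul_le_mul_left _ (s6.trans (Nat.mul_le_mul_left _ s7)))))))))))).trans ?_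
  have := t.le
  interval_cases δ <;> decide +kernel

end count

end XC

end Cfsg.Agent.N2C.Ext
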