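import Cfsg.Agent.N2.Cl.Ext.Base

/-!
# N2 (S3519), class `pExt`: odd `r` (helper22)

Transvections lift to Gauss sums; the product of three of them has order four on a hyperbolic plane.
-/

set_option autoImplicit false
set_option linter.unusedSectionVars false

namespace Cfsg.Agent.N2C.Ext

open Cfsg.Agent.DS.Cl Cfsg.Agent.DS.Cl.Fwd Cfsg.Agent.SB.Cl Cfsg.Agent.TH.Cl.Ext

section groups

variable {Γ : Type*} [Group Γ]

theorem two_mul_cc_le [Finite Γ] (B : Subgroup Γ) (a : Γ) {w : Γ} (hw : w ∈ B)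
    (h : ∀ g g', IsConj a g → IsConj a g' → g' ∈ B → g ≠ g' * w) : 2 * N2.cc B a ≤ Nat.card B := by
  rw [N2.cc, show 2 = Nat.card Bool by simp, ← Nat.card_prod]
  refine Nat.card_le_card_of_injective (fun q : Bool × {g : Γ // IsConj a g ∧ g ∈ B} =>
    (⟨bif q.1 then q.2.1 else q.2.1 * w, by cases q.1; exacts [B.mul_mem q.2.2.2 hw, q.2.2.2]⟩ : B)) ?_
  rintro ⟨_ | _, g⟩ ⟨_ | _, g'⟩ e
  · exact Prod.ext rfl (Subtype.ext (mul_right_cancel (congrArg Subtype.val e)))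
  · exact absurd (congrArg Subtype.val e).symm (h _ _ g'.2.1 g.2.1 g.2.2)
  · exact absurd (congrArg Subtype.val e) (h _ _ g.2.1 g'.2.1 g'.2.2)
  · exact Prod.ext rfl (Subtype.ext (Subtype.mk.inj e))

theorem conj_pow_inv {N : Subgroup Γ} {y w : Γ} (hy : ∀ ν ∈ N, y * ν * y⁻¹ ∈ N) (hw : ∀ ν ∈ N, w * ν * w⁻¹ = ν⁻¹)
    (j : ℕ) : ∀ ν ∈ N, (y * w) ^ j * ν * ((y * w) ^ j)⁻¹ = y ^ j * ν ^ ((-1 : ℤ) ^ j) * (y ^ j)⁻¹ := by
  induction j with
  | zero => simp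
  | succ j ih =>
    intro ν hν
    have h1 := ih _ (hy _ (N.inv_mem hν))
    rw [conj_zpow, inv_zpow'] at h1
    calc (y * w) ^ (j + 1) * ν * ((y * w) ^ (j + 1))⁻¹
        = (y * w) ^ j * (y * (w * ν * w⁻¹) * y⁻¹) * ((y * w) ^ j)⁻¹ := by rw [pow_succ]; group
      _ = _ := by rw [hw ν hν, h1, pow_succ, pow_succ, mul_neg_one]; group

/-- the elements inverted by `γ` -/
def Iv (N : Subgroup Γ) (hc : ∀ x ∈ N, ∀ y ∈ N, x * y = y * x) (γ : Γ) : Subgroup Γ where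
  carrier := {ν | ν ∈ N ∧ γ * ν * γ⁻¹ = ν⁻¹}
  mul_mem' := fun {a b} ha hb => ⟨N.mul_mem ha.1 hb.1, by
    rw [hc a ha.1 b hb.1, mul_inv_rev, ← ha.2, ← hb.2, hc b hb.1 a ha.1]; group⟩
  one_mem' := ⟨N.one_mem, by simp⟩
  inv_mem' := fun {a} ha => ⟨N.inv_mem ha.1, by rw [← conj_inv, ha.2]⟩

end groups

variable {A : Type} [Ring A] [StarRing A] [Finite A]

section pw

variable {r : ℕ} [NeZero r] {x η u : A}

/-- powers with exponents modulo `r` -/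
def pw (x : A) (j : ZMod r) : A := x ^ j.val

theorem pw_add (hx : x ^ r = 1) (i j : ZMod r) : pw x (i + j) = pw x i * pw x j := by
  rw [pw, ZMod.val_add, ← pow_eq_pow_mod _ hx, pow_add, pw, pw]

theorem pw_cast (hx : x ^ r = 1) (k : ℕ) : pw x (k : ZMod r) = x ^ k := by
  rw [pw, ZMod.val_natCast, ← pow_eq_pow_mod _ hx]

theorem pw_zero (x : A) : pw x (0 : ZMod r) = 1 := by rw [pw, ZMod.val_zero, pow_zero]

theorem star_pw (hu : Un x) (hx : x ^ r = 1) (j : ZMod r) : star (pw x j) = pw x (-j) :=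
  (hu.pow _).star_eq ((pw_add hx j (-j)).symm.trans (by rw [add_neg_cancel, pw_zero]))

theorem pw_cen (h : η ∈ Subring.center A) (j : ZMod r) : pw η j ∈ Subring.center A := Subring.pow_mem _ h _

/-- Gauss sums -/
def gs (r : ℕ) [NeZero r] (η x : A) : A := ∑ j : ZMod r, pw η (j ^ 2) * pw x j

theorem comm_gs (h : η ∈ Subring.center A) (e : u * x = x * u) : u * gs r η x = gs r η x * u := by
  rw [gs, Finset.mul_sum, Finset.sum_mul]
  refine Finset.sum_congr rfl fun j _ => ?_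
  rw [← mul_assoc, cen_comm (pw_cen h _), mul_assoc, mul_assoc]
  exact congrArg _ ((show Commute u x from e).pow_right _)

theorem gs_mul (h : η ∈ Subring.center A) (hη : η ^ r = 1) (hx : x ^ r = 1) {i : ℕ} (e : Cm (η ^ (2 * i)) u x) :
    gs r η x * u = η ^ i ^ 2 * (x ^ i * u) * gs r η x := by
  rw [gs, Finset.mul_sum, Finset.sum_mul, ← Equiv.sum_comp (Equiv.addLeft (i : ZMod r))]
  refine Finset.sum_congr rfl fun j _ => ?_
  have h1 : u * pw x j = pw η (2 * (i : ZMod r) * j) * (pw x j * u) := by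
    rw [pw, (e.pow _).2, ← pow_mul, ← pw_cast hη]
    push_cast
    rw [ZMod.natCast_zmod_val]
  rw [Equiv.coe_addLeft, show ((i : ZMod r) + j) ^ 2 = ((i ^ 2 : ℕ) : ZMod r) + (j ^ 2 + 2 * i * j) by push_cast; ring,
    pw_add hη, pw_add hη, pw_add hx, pw_cast hη, pw_cast hx, cen_mul_mul (pw_cen h _), mul_assoc (x ^ i), h1,
    ← mul_assoc (x ^ i), cen_comm (pw_cen h _) (x ^ i)]
  simp only [mul_assoc]

theorem gs_star {F : FR A} {N : Subgroup (RingAut A)} (σ : Sit F N r) (hr : r ≠ 2) (h : η ∈ Subring.center A)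
    (h1 : Un η) (hη : η ^ r = 1) (h2 : η ≠ 1) (hu : Un x) (hx : x ^ r = 1) : gs r η x * star (gs r η x) = r := by
  have : Fact r.Prime := ⟨σ.prime⟩
  have h3 : ∀ d : ZMod r, d ≠ 0 → ∑ l : ZMod r, pw η (2 * d * l) = 0 := fun d hd => by
    have h4 : (2 : ZMod r) * d ≠ 0 := mul_ne_zero (fun e => hr ((Nat.prime_dvd_prime_iff_eq σ.prime Nat.prime_two).1
      ((ZMod.natCast_eq_zero_iff 2 r).1 e))) hd
    refine (σ.sub_unit (pw_cen h (2 * d)) (h1.pow _) (Subring.one_mem _) Un.one fun e => h4 ((ZMod.val_eq_zero _).1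
      (σ.pow_ne hη h2 (ZMod.val_lt _) σ.prime.pos (e.trans (pow_zero η).symm)))).mul_right_eq_zero.1 ?_
    rw [sub_mul, one_mul, sub_eq_zero, Finset.mul_sum, ← Equiv.sum_comp (Equiv.addLeft (1 : ZMod r)) fun l => pw η (2 * d * l)]
    exact Finset.sum_congr rfl fun l _ => by rw [← pw_add hη, Equiv.coe_addLeft, mul_add, mul_one]
  have h4 : ∀ l : ZMod r, gs r η x * star (pw η (l ^ 2) * pw x l) =
      ∑ d : ZMod r, pw η (d ^ 2) * pw x d * pw η (2 * d * l) := fun l => by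
    rw [gs, Finset.sum_mul, ← Equiv.sum_comp (Equiv.addRight l)]
    refine Finset.sum_congr rfl fun d _ => ?_
    rw [Equiv.coe_addRight, star_mul, star_pw h1 hη, star_pw hu hx, cen_comm (pw_cen h _), cen_mul_mul (pw_cen h _),
      ← pw_add hη, ← pw_add hx, cen_comm (pw_cen h (2 * d * l)), ← mul_assoc, ← pw_add hη]
    congr 2 <;> ring
  conv_lhs => rw [gs, star_sum, ← gs, Finset.mul_sum]
  simp only [h4]
  rw [Finset.sum_comm]
  simp only [← Finset.mul_sum]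
  rw [Finset.sum_eq_single 0 (fun d _ hd => by rw [h3 d hd, mul_zero]) (by simp)]
  simp [pw_zero]

end pw

namespace XC

variable {F : FR A} {H N : Subgroup (RingAut A)} {p r : ℕ} (E : XC F H N p r)
include E

theorem exists_exp {ζ : A} (h1 : ζ ∈ Subring.center A) (h2 : Un ζ) (h3 : ζ ^ r = 1) (h4 : ζ ≠ 1) {u x : A} (hu : Lf N u)
    (hx : Lf N x) : ∃ i, Cm (ζ ^ i) u x := by
  obtain ⟨ρ, hρ, hρ'⟩ := E.exists_rho
  obtain ⟨κ, b1, b2, b3⟩ := E.exists_cm hu hx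
  obtain ⟨i, -, e⟩ := E.σ.exists_pow hρ hρ' h1 h2 h3 h4 (star_cen b3.1) b1.st (by rw [← star_pow, b2, star_one])
  refine ⟨i, ?_⟩
  rwa [b1.st.cancel' (e.trans b1.ms.symm)]

/-- **transvections** -/
theorem exists_tv (hr : r ≠ 2) {ζ : A} (h1 : ζ ∈ Subring.center A) (h2 : Un ζ) (h3 : ζ ^ r = 1) (h4 : ζ ≠ 1) {x : A}
    (hx : Lf N x) (hx' : x ^ r = 1) : ∃ T, Un T ∧ (∀ y, y * x = x * y → y * T = T * y) ∧
      (∀ u i, Un u → Cm (ζ ^ i) u x → ad T * ad u * (ad T)⁻¹ = ad x ^ i * ad u) ∧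
      (∀ ν ∈ N, ad T * ν * (ad T)⁻¹ ∈ N) ∧ ad T ^ r ∈ F.S := by
  have : NeZero r := ⟨E.σ.prime.ne_zero⟩
  obtain ⟨ρ, hρ, hρ'⟩ := E.exists_rho
  obtain ⟨m, hm⟩ := E.σ.prime.odd_of_ne_two hr
  have a1 : (ζ ^ (m + 1)) ^ 2 = ζ := by rw [← pow_mul, show (m + 1) * 2 = r + 1 by omega, pow_succ, h3, one_mul]
  have a2 : ζ ^ (m + 1) ∈ Subring.center A := Subring.pow_mem _ h1 _
  have a3 := h2.pow (m + 1)
  have a4 : (ζ ^ (m + 1)) ^ r = 1 := by rw [← pow_mul, mul_comm, pow_mul, h3, one_pow]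
  have a5 : ζ ^ (m + 1) ≠ 1 := fun e => h4 (by rw [← a1, e, one_pow])
  generalize ζ ^ (m + 1) = η at a1 a2 a3 a4 a5
  subst a1
  have b1 := gs_star E.σ hr a2 a3 a4 a5 hx.1 hx'
  have b2 := gs_star E.σ hr a2 a3 a4 a5 Un.one (one_pow r)
  have b3 : gs r η 1 ∈ Subring.center A := Subring.mem_center_iff.2 fun y => comm_gs a2 (by simp)
  have b4 : star ρ = ρ := by
    have h3 := congrArg star hρ'
    rw [star_mul, star_natCast, star_one] at h3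
    rw [← one_mul (star ρ), ← hρ', mul_assoc, h3, mul_one]
  have b5 : ρ * gs r η 1 ∈ Subring.center A := Subring.mul_mem _ hρ b3
  have b6 : Un (ρ * gs r η 1 * gs r η x) := by
    rw [Un, star_mul, mul_assoc, ← mul_assoc (gs r η x), b1, star_mul, b4, ← cen_comm (natCast_mem _ r),
      mul_assoc (star _), hρ', mul_one, mul_assoc, b2, hρ']
  have b7 : ∀ y, y * x = x * y → y * (ρ * gs r η 1 * gs r η x) = ρ * gs r η 1 * gs r η x * y := fun y hy => by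
    rw [← mul_assoc, cen_comm b5, mul_assoc, comm_gs a2 hy, ← mul_assoc]
  have b8 : ∀ u i, Un u → Cm ((η ^ 2) ^ i) u x →
      ad (ρ * gs r η 1 * gs r η x) * ad u * (ad (ρ * gs r η 1 * gs r η x))⁻¹ = ad x ^ i * ad u := fun u i hu e => by
    rw [← pow_mul] at e
    rw [conj_ad _ hu, ad_apply b6, mul_assoc _ _ u, gs_mul a2 a4 hx' e, ← mul_assoc, ← cen_comm b5, mul_assoc, mul_assoc,
      ← mul_assoc (ρ * _), b6.ms, mul_one, ad_mul (a3.pow _) ((hx.1.pow i).mul hu), ad_cen (Subring.pow_mem _ a2 _),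
      one_mul, ad_mul (hx.1.pow i) hu, ad_pow hx.1]
  generalize ρ * gs r η 1 * gs r η x = T at b6 b7 b8
  refine ⟨T, b6, b7, b8, fun ν hν => ?_, ?_⟩
  · obtain ⟨u, hu, rfl⟩ := E.σ.exists_lf hν
    obtain ⟨i, hi⟩ := E.exists_exp h1 h2 h3 h4 hu hx
    rw [b8 u i hu.1 hi]
    exact N.mul_mem (N.pow_mem hx.2 i) hν
  · rw [← ad_pow b6]
    refine E.σ.le (E.σ.cent (b6.pow r) fun ν hν => ?_)
    obtain ⟨u, hu, rfl⟩ := E.σ.exists_lf hν
    obtain ⟨i, hi⟩ := E.exists_exp h1 h2 h3 h4 hu hx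
    have c1 : Commute (ad T) (ad x) := by
      rw [Commute, SemiconjBy, ← ad_mul b6 hx.1, ← b7 x rfl, ad_mul hx.1 b6]
    have c2 : ∀ k : ℕ, ad T ^ k * ad u = (ad x ^ k) ^ i * ad u * ad T ^ k := fun k => by
      induction k with
      | zero => simp
      | succ k ih =>
        rw [pow_succ', mul_assoc, ih, ← mul_assoc, ← mul_assoc, ((c1.pow_right k).pow_right i).eq, mul_assoc _ (ad T),
          mul_inv_eq_iff_eq_mul.1 (b8 u i hu.1 hi), pow_succ (ad x), Commute.mul_pow ((Commute.refl _).pow_left k)]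
        simp only [mul_assoc]
    rw [ad_pow b6, c2, ← ad_pow hx.1, hx', ad_one, one_pow, one_mul]

/-- **an element of order four on a hyperbolic plane** -/
theorem exists_four (hr : r ≠ 2) {x₀ y₀ : A} (hx₀ : Lf N x₀) (hy₀ : Lf N y₀) (h : x₀ * y₀ ≠ y₀ * x₀) :
    ∃ f, Un f ∧ ad f ∈ F.S ∧ ad f ^ 4 = 1 ∧ (∀ ν ∈ N, ad f * ν * (ad f)⁻¹ ∈ N) ∧
      (∀ w, w * x₀ = x₀ * w → w * y₀ = y₀ * w → w * f = f * w) ∧
      ad x₀ ∈ Iv N E.σ.comm (ad f ^ 2) ∧ ad y₀ ∈ Iv N E.σ.comm (ad f ^ 2) := by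
  have h0 := E.root.resolve_right fun h => hr h.1
  have h1 : ∀ {u}, Lf N u → ∃ v, Lf N v ∧ v ^ r = 1 ∧ ad v = ad u ∧ ∀ w, w * u = u * w ↔ w * v = v * w := fun {u} hu => by
    obtain ⟨c, c1, c2, c3⟩ := h0 u hu
    have e : ad (c * u) = ad u := by rw [ad_mul c2 hu.1, ad_cen c1, one_mul]
    exact ⟨_, (Lf.cen c1 c2).mul hu, c3, e, fun w => by
      rw [eq_comm, ← ad_fix hu.1, ← e, ad_fix (c2.mul hu.1), eq_comm]⟩
  obtain ⟨x, hx, x1, x2, x3⟩ := h1 hx₀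
  obtain ⟨y, hy, y1, y2, y3⟩ := h1 hy₀
  rw [← x2, ← y2]
  have h2 : x * y ≠ y * x := fun e => h ((x3 _).2 ((y3 x).2 e).symm).symm
  obtain ⟨ζ, a1, a2, a3⟩ := E.exists_cm hy hx
  have a4 : ζ ≠ 1 := fun e => h2 (a3.eq e).symm
  obtain ⟨T, t1, t2, t3, t4, t5⟩ := E.exists_tv hr a3.1 a1 a2 a4 hx x1
  obtain ⟨U, u1, u2, u3, u4, u5⟩ := E.exists_tv hr a3.1 a1 a2 a4 hy y1
  have hp := E.σ.prime.pos
  have k1 := t3 x 0 hx.1 (by rw [pow_zero]; exact Cm.of_eq rfl)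
  have k2 := t3 y 1 hy.1 (by rw [pow_one]; exact a3)
  have k3 := u3 y 0 hy.1 (by rw [pow_zero]; exact Cm.of_eq rfl)
  have k4 := u3 x (r - 1) hx.1 (by
    rw [← a1.star_eq (b := ζ ^ (r - 1)) (by rw [← pow_succ', Nat.sub_add_cancel hp, a2])]
    exact a3.symm a1)
  rw [show ad y ^ (r - 1) = (ad y)⁻¹ from eq_inv_of_mul_eq_one_left (by
    rw [← pow_succ, Nat.sub_add_cancel hp, E.σ.exp _ hy.2])] at k4
  rw [pow_zero, one_mul] at k1 k3
  rw [pow_one] at k2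
  have c := E.σ.comm _ hx.2 _ hy.2
  have f1 : Un (T * U * T) := (t1.mul u1).mul t1
  have f2 : ad (T * U * T) = ad T * ad U * ad T := by rw [ad_mul (t1.mul u1) t1, ad_mul t1 u1]
  have f3 : ad (T * U * T) * ad x * (ad (T * U * T))⁻¹ = (ad y)⁻¹ := by
    calc _ = ad T * (ad U * (ad T * ad x * (ad T)⁻¹) * (ad U)⁻¹) * (ad T)⁻¹ := by rw [f2]; group
      _ = ad T * ((ad y)⁻¹ * ad x) * (ad T)⁻¹ := by rw [k1, k4]
      _ = (ad T * ad y * (ad T)⁻¹)⁻¹ * (ad T * ad x * (ad T)⁻¹) := by group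
      _ = _ := by rw [k1, k2]; group
  have f4 : ad (T * U * T) * ad y * (ad (T * U * T))⁻¹ = ad x := by
    calc _ = ad T * (ad U * (ad T * ad y * (ad T)⁻¹) * (ad U)⁻¹) * (ad T)⁻¹ := by rw [f2]; group
      _ = ad T * ((ad U * ad x * (ad U)⁻¹) * (ad U * ad y * (ad U)⁻¹)) * (ad T)⁻¹ := by rw [k2]; group
      _ = _ := by rw [k3, k4, mul_assoc _ (ad x), c, inv_mul_cancel_left, k1]
  have f5 : ad (T * U * T) ^ r ∈ F.S := E.ps_mul (t1.mul u1) t1 (E.ps_mul t1 u1 t5 u5) t5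
  have f6 : ∀ ν ∈ N, ad (T * U * T) * ν * (ad (T * U * T))⁻¹ ∈ N := fun ν hν => by
    have := t4 _ (u4 _ (t4 ν hν))
    rw [f2]
    simpa only [mul_inv_rev, mul_assoc] using this
  have f7 : ∀ w, w * x = x * w → w * y = y * w → w * (T * U * T) = T * U * T * w := fun w h1 h2 =>
    ((show Commute w T from t2 w h1).mul_right (u2 w h2)).mul_right (t2 w h1)
  generalize T * U * T = f at f1 f3 f4 f5 f6 f7
  have g1 : ad f ^ 2 * ad x * (ad f ^ 2)⁻¹ = (ad x)⁻¹ := by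
    calc _ = ad f * (ad f * ad x * (ad f)⁻¹) * (ad f)⁻¹ := by rw [pow_two]; group
      _ = _ := by rw [f3, conj_inv.symm, f4]
  have g2 : ad f ^ 2 * ad y * (ad f ^ 2)⁻¹ = (ad y)⁻¹ := by
    calc _ = ad f * (ad f * ad y * (ad f)⁻¹) * (ad f)⁻¹ := by rw [pow_two]; group
      _ = _ := by rw [f4, f3]
  have g3 : ∀ {ν : RingAut A}, ad f ^ 2 * ν * (ad f ^ 2)⁻¹ = ν⁻¹ → Commute (ad f ^ 4) ν := fun {ν} e => by
    rw [Commute, SemiconjBy, ← mul_inv_eq_iff_eq_mul]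
    calc _ = ad f ^ 2 * (ad f ^ 2 * ν * (ad f ^ 2)⁻¹) * (ad f ^ 2)⁻¹ := by group
      _ = _ := by rw [e, conj_inv.symm, e, inv_inv]
  have g4 : ad f ^ 4 ∈ N := by
    rw [← ad_pow f1]
    refine E.σ.cent (f1.pow 4) fun ν hν => ?_
    obtain ⟨w, hw, rfl⟩ := E.σ.exists_lf hν
    obtain ⟨i, -, j, -, e1, e2⟩ := E.split hx hy h2 hw
    have e3 := ((hx.pow i).mul (hy.pow j)).mul hw
    have e4 : Commute (ad f) (ad (x ^ i * y ^ j * w)) := by
      rw [Commute, SemiconjBy, ← ad_mul f1 e3.1, ← f7 _ e1 e2, ad_mul e3.1 f1]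
    rw [ad_mul ((hx.pow i).mul (hy.pow j)).1 hw.1, ad_mul (hx.1.pow i) (hy.1.pow j), ad_pow hx.1, ad_pow hy.1] at e4
    rw [ad_pow f1]
    have e5 := (((g3 g1).pow_right i).mul_right ((g3 g2).pow_right j)).inv_right.mul_right (e4.pow_left 4)
    rwa [inv_mul_cancel_left] at e5
  have g5 : ∀ {ν : RingAut A}, ad f ^ 2 * ν * (ad f ^ 2)⁻¹ = ν⁻¹ → (ad f ^ r) ^ 2 * ν * ((ad f ^ r) ^ 2)⁻¹ = ν⁻¹ :=
    fun {ν} e => by
    obtain ⟨m, hm⟩ := E.σ.prime.odd_of_ne_two hr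
    rw [← pow_mul, show r * 2 = 2 + 4 * m by omega, pow_add, pow_mul, mul_assoc _ _ ν, ((g3 e).pow_left m).eq, ← e]
    group
  have g6 : (ad f ^ r) ^ 4 = 1 := by rw [← pow_mul, mul_comm, pow_mul, E.σ.exp _ g4]
  refine ⟨f ^ r, f1.pow r, ?_⟩
  rw [ad_pow f1]
  refine ⟨f5, g6, fun ν hν => ?_, fun w h1 h2 => (show Commute w f from f7 w ((x3 w).1 h1) ((y3 w).1 h2)).pow_right r,
    ⟨hx.2, g5 g1⟩, hy.2, g5 g2⟩
  have := Cyc.finAut (A := A)
  exact (Subgroup.mem_normalizer_iff.1 (Subgroup.pow_mem _ (Subgroup.mem_normalizer_fintype f6) r) ν).1 hν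

theorem eq_one_of_inv (hr : r ≠ 2) {ν : RingAut A} (hν : ν ∈ N) (h : ν = ν⁻¹) : ν = 1 :=
  Subgroup.mem_bot.1 (mem_of_coprime ((Nat.coprime_primes Nat.prime_two E.σ.prime).2 hr.symm)
    (by rw [Subgroup.mem_bot, pow_two]; nth_rw 2 [h]; rw [mul_inv_cancel]) (E.σ.exp ν hν))

/-- **two planes** -/
theorem odd_big (hr : r ≠ 2) (hN : r ^ 2 < Nat.card N) : ∃ g t, Un g ∧ ad g ∈ F.S ∧ (∀ ν ∈ N, ad g * ν * (ad g)⁻¹ ∈ N) ∧
    Cyc.cU g ≤ Nat.card (Subring.center A) ^ t ∧ 9 * t ≤ Nat.card N := by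
  have := Cyc.finAut (A := A)
  obtain ⟨x, y, hx, hy, h1⟩ := E.exists_pair E.nd_top E.σ.ne
  obtain ⟨u, v, hu, hv, h2⟩ := E.exists_pair (E.nd_pp E.nd_top hx hy h1) fun e => by
    have := E.le_card_pp le_rfl hx hy h1
    rw [e, Subgroup.card_bot] at this
    omega
  obtain ⟨u1, u2, -⟩ := lf_pp.1 hu
  obtain ⟨v1, v2, -⟩ := lf_pp.1 hv
  obtain ⟨f, f1, f2, f3, f4, f5, f6, f7⟩ := E.exists_four hr u1 v1 h2
  have c1 : Commute (ad f) (ad x) := by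
    rw [Commute, SemiconjBy, ← ad_mul f1 hx.1, ← f5 x u2.symm v2.symm, ad_mul hx.1 f1]
  obtain ⟨t, t1, t2⟩ := fx_K E.σ f1 (K := N ⊓ St x) inf_le_left f4
    (fun ν hν => ⟨f4 ν hν.1, (E.conj_ap (E.σ.mem_PI f1) hν.1 hx c1).trans hν.2⟩) (by norm_num) f3
    (fun a => x * a = a * x ∧ f * a = a * f)
    (fun a b ha hb => ⟨by rw [mul_sub, sub_mul, ha.1, hb.1], by rw [mul_sub, sub_mul, ha.2, hb.2]⟩) (fun a ha => ha.2)
    fun ν hν h => ⟨x, hx, fun e => h ⟨hν, e⟩, fun a ha => ha.1⟩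
  refine ⟨x * f, t, hx.1.mul f1, ?_, fun ν hν => ?_, (cU_le_card _ fun a ha => ?_).trans t1, ?_⟩
  · rw [ad_mul hx.1 f1]
    exact F.S.mul_mem (E.σ.le hx.2) f2
  · rw [ad_mul hx.1 f1]
    simpa only [mul_inv_rev, mul_assoc] using N.mul_mem (N.mul_mem hx.2 (f4 ν hν)) (N.inv_mem hx.2)
  · have h3 : ad x * ad f ∈ St a := by
      rw [← ad_mul hx.1 f1]
      exact (ad_mem_St (hx.1.mul f1)).2 ha.symm
    have h4 : ad x ∈ St a := mem_of_coprime (a := 4) (b := r)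
      (((Nat.coprime_primes Nat.prime_two E.σ.prime).2 hr.symm).pow_left 2)
      (by simpa only [c1.symm.mul_pow, f3, mul_one] using Subgroup.pow_mem _ h3 4)
      (by rw [E.σ.exp _ hx.2]; exact Subgroup.one_mem _)
    exact ⟨(ad_mem_St hx.1).1 h4, (ad_mem_St f1).1 ((Subgroup.mul_mem_cancel_left _ h4).1 h3)⟩
  · have h3 : r ^ 2 ≤ Nat.card ↥(Iv N E.σ.comm (ad f ^ 2) ⊓ St x) :=
      le_trans (Nat.le_mul_of_pos_left _ Nat.card_pos) (E.card_pp (M := Iv N E.σ.comm (ad f ^ 2) ⊓ St x) (fun _ h => h.1.1) (u := u) (v := v)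
        ⟨u1.1, f6, (ad_mem_St u1.1).2 u2⟩ ⟨v1.1, f7, (ad_mem_St v1.1).2 v2⟩ h2)
    have h4 : ∀ k, ad f ^ 2 ∈ Subgroup.zpowers (ad f ^ k) →
        Nat.card (cN (N ⊓ St x) (ad f ^ k)) * r ^ 2 ≤ Nat.card ↥(N ⊓ St x) := fun k hk =>
      (Nat.mul_le_mul_left _ h3).trans (card_mul_le_of_disj inf_le_left (fun _ h => ⟨h.1.1, h.2⟩) fun ν a1 a2 => by
        obtain ⟨j, hj⟩ := hk
        refine E.eq_one_of_inv hr a1.1.1 ?_
        rw [← a1.1.2, ← hj, ((show Commute (ad f ^ k) ν from (mem_cN.1 a2).2).zpow_left j).eq, mul_inv_cancel_right])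
    have k1 := h4 1 (by rw [pow_one]; exact Subgroup.pow_mem _ (Subgroup.mem_zpowers _) 2)
    have k2 := h4 2 (Subgroup.mem_zpowers _)
    have k3 := h4 3 (by
      rw [show ad f ^ 2 = (ad f ^ 3) ^ 2 by rw [← pow_mul, show 3 * 2 = 4 + 2 from rfl, pow_add, f3, one_mul]]
      exact Subgroup.pow_mem _ (Subgroup.mem_zpowers _) 2)
    have k4 : Nat.card (cN (N ⊓ St x) (ad f ^ 0)) ≤ Nat.card ↥(N ⊓ St x) := Subgroup.card_le_of_le inf_le_left
    have k5 := E.card_St le_rfl hy h1.symm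
    simp only [Finset.sum_range_succ, Finset.range_zero, Finset.sum_empty] at t2
    have k6 : 3 ≤ r := lt_of_le_of_ne E.σ.prime.two_le hr.symm
    have k7 : t * 4 * r ^ 2 ≤ Nat.card ↥(N ⊓ St x) * (r ^ 2 + 3) := by
      have := Nat.mul_le_mul_right (r ^ 2) k4
      rw [t2]
      linarith
    refine Nat.le_of_mul_le_mul_right ?_ (show 0 < 4 * r ^ 3 by positivity)
    calc 9 * t * (4 * r ^ 3) = t * 4 * r ^ 2 * (9 * r) := by ring
      _ ≤ Nat.card ↥(N ⊓ St x) * (r ^ 2 + 3) * (9 * r) := Nat.mul_le_mul_right _ k7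
      _ = Nat.card ↥(N ⊓ St x) * r * (9 * (r ^ 2 + 3)) := by ring
      _ ≤ _ := Nat.mul_le_mul k5 (by nlinarith [Nat.mul_le_mul_right (r ^ 2) k6, Nat.pow_le_pow_left k6 2])

omit E in
/-- elements with support in `K` -/
theorem ind_K (σ : Sit F N r) {K : Subgroup (RingAut A)} {a : A}
    (h : ∀ ν ∈ N, ν ∉ K → ∃ y, Lf N y ∧ ν y ≠ y ∧ y * a = a * y) {P : A → Prop} (h0 : P 0)
    (h1 : ∀ a b, P a → P b → P (a + b)) (h2 : ∀ c ∈ Subring.center A, ∀ u, Lf K u → P (c * u)) : P a := by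
  have := Cyc.finAut (A := A)
  let _ : Fintype N := Fintype.ofFinite _
  obtain ⟨s, co, hs, hs', hc⟩ := σ.exists_co
  rw [← hc a]
  refine Finset.sum_induction _ P h1 h0 fun ν _ => ?_
  by_cases hν : (ν : RingAut A) ∈ K
  · exact h2 _ (co a ν).2 _ ⟨(hs ν).1, by rwa [hs']⟩
  obtain ⟨u, hu, h5, h6⟩ := h ν ν.2 hν
  have h7 : ∀ ν, ∃ lam : Subring.center A, Un (lam : A) ∧ u * s ν * star u = lam * s ν := fun ν =>
    Sit.exists_lam hs hs' ((hu.mul (hs ν)).mul hu.st) (by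
      rw [ad_mul (hu.1.mul (hs ν).1) hu.1.st, ad_mul hu.1 (hs ν).1, ad_star hu.1, hs', σ.comm _ hu.2 _ ν.2,
        mul_inv_cancel_right])
  choose lam' h7 h8 using h7
  have h9 : (lam' ν : A) ≠ 1 := fun e => h5 (by
    have h3 := h8 ν
    rw [e, one_mul, ← ad_apply hu.1, ad_fix hu.1] at h3
    rw [← hs', ad_fix (hs ν).1, h3])
  have h10 := Sit.co_conj hc 1 lam' h8 a ν
  rw [h6, mul_assoc, hu.1.ms, mul_one] at h10
  have h11 : (co a ν : A) = 0 := by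
    refine (σ.sub_unit (lam' ν).2 (h7 ν) (Subring.one_mem _) Un.one h9).mul_right_eq_zero.1 ?_
    rw [sub_mul, sub_eq_zero, one_mul]
    exact (congrArg Subtype.val h10).symm
  rwa [h11, zero_mul]

/-- **one plane** -/
theorem odd_small (hr : r ≠ 2) (hN : Nat.card N = r ^ 2) {ι : Type} (e : ι → A) (e1 : ∀ i, e i ∈ Subring.center A)
    (e2 : ∀ i, star (e i) = e i) (e3 : ∀ i j, i ≠ j → IsUnit (e i - e j)) (e4 : 2 ≤ Nat.card ι)
    (hz : Nat.card (Subring.center A) ≤ Nat.card ι ^ 2)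
    (h : ((Nat.card ι + 1) ^ r) ^ 3 * r ^ 5 ≤ 8 * Nat.card F.S) : Gd F H := by
  have := Cyc.finAut (A := A)
  have hp := E.σ.prime.pos
  obtain ⟨x₀, y, hx₀, hy, h0⟩ := E.exists_pair E.nd_top E.σ.ne
  obtain ⟨c, c1, c2, x1⟩ := (E.root.resolve_right fun h => hr h.1) x₀ hx₀
  have hx := (Lf.cen c1 c2).mul hx₀
  have h1 : c * x₀ * y ≠ y * (c * x₀) := fun e => h0 (c2.cancel (by rw [← mul_assoc, e, ← mul_assoc, ← mul_assoc, cen_comm c1]))
  generalize c * x₀ = x at x1 hx h1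
  have h2 : ad x ≠ 1 := fun e => h1 (cen_comm ((ad_eq_one_iff hx.1).1 e) y).symm
  have h3 : ∀ u v, Lf (N ⊓ St x) u → Lf (N ⊓ St x) v → u * v = v * u := fun u v hu hv => by
    by_contra h4
    have h5 := E.card_pp le_rfl (lf_mono inf_le_left hu) (lf_mono inf_le_left hv) h4
    rw [hN] at h5
    have h6 : pp N u v = ⊥ := (Subgroup.card_le_one_iff_eq_bot _).1
      (Nat.le_of_mul_le_mul_right (by rwa [one_mul]) (pow_pos hp 2))
    exact h2 (Subgroup.mem_bot.1 (h6 ▸ (lf_pp.2 ⟨hx, ((ad_mem_St hu.1).1 hu.2.2).symm, ((ad_mem_St hv.1).1 hv.2.2).symm⟩).2))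
  have h4 : ∀ {a}, a * x = x * a → ∀ ν ∈ N, ν ∉ N ⊓ St x → ∃ y, Lf N y ∧ ν y ≠ y ∧ y * a = a * y :=
    fun ha ν hν h => ⟨x, hx, fun e => h ⟨hν, e⟩, ha.symm⟩
  have h5 : Cyc.IsCyc x := fun a b ha hb =>
    ind_K E.σ (h4 ha) (P := fun a => a * b = b * a) (by simp) (fun _ _ h1 h2 => by rw [add_mul, mul_add, h1, h2])
      fun c hc u hu => ind_K E.σ (h4 hb) (P := fun b => c * u * b = b * (c * u)) (by simp)
        (fun _ _ h1 h2 => by rw [add_mul, mul_add, h1, h2]) fun d hd v hv => by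
          rw [cen_mul_mul hd, cen_mul_mul hc, h3 u v hu hv, cen_comm hd]
  obtain ⟨ρ, hρ, hρ'⟩ := E.exists_rho
  obtain ⟨c, c1, c2⟩ := Cyc.exists_tr_of_pow F hx.1 x1 (IsUnit.of_mul_eq_one_right ρ hρ')
  obtain ⟨ζ, a1, a2, a3⟩ := E.exists_cm hx hy
  have a4 : ζ ≠ star ζ := fun e => by
    have h5 := E.σ.prime.two_le
    have h6 := E.σ.pow_ne a2 (fun e => h1 (a3.eq e)) (i := 2) (j := 0) (by omega) hp (by
      rw [pow_two, pow_zero]; nth_rewrite 2 [e]; exact a1)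
    omega
  obtain ⟨t, t1, t2⟩ := E.σ.fx_lf hx h2
  have h6 := Cyc.cU_le_unit hx.1 h5 c1 c2 (cen_comm a3.1 x).symm (E.σ.sub_unit a3.1 a1 (star_cen a3.1) a1.st a4) e
    (fun i => (cen_comm (e1 i) x).symm) e2 e3 e4 (ν := r) (by
      refine le_trans (le_of_eq (Nat.card_congr (Equiv.subtypeEquivRight fun _ => eq_comm))) (t1.trans ?_)
      rw [← pow_mul, mul_comm, pow_mul]
      refine (Nat.pow_le_pow_right Nat.card_pos ?_).trans (Nat.pow_le_pow_left hz r)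
      exact Nat.le_of_mul_le_mul_right (by rwa [hN, pow_two] at t2) hp)
  obtain ⟨f, f1, f2, -, f4, -, f6, f7⟩ := E.exists_four hr hx hy h1
  have h7 : Iv N E.σ.comm (ad f ^ 2) = N := Subgroup.eq_of_le_of_card_ge (fun _ h => h.1) (hN.trans_le
    (le_trans (Nat.le_mul_of_pos_left _ Nat.card_pos) (E.card_pp (M := Iv N E.σ.comm (ad f ^ 2)) (fun _ h => h.1) ⟨hx.1, f6⟩ ⟨hy.1, f7⟩ h1)))
  obtain ⟨u, hu, k1, k2⟩ := exists_el hx.1 (E.σ.le hx.2)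
  have k3 := two_mul_cc_le (H.subgroupOf F.S) (Cyc.el hu) (w := ⟨ad f ^ 2, F.S.pow_mem f2 2⟩)
    (H.pow_mem (E.mem_H f2 f4) 2) fun g g' g1 g2 g3 e => h2 (by
      have h8 : ∀ g : F.S, IsConj (Cyc.el hu) g → (g : RingAut A) ^ r = 1 := fun g hg => by
        obtain ⟨s, rfl⟩ := isConj_iff.1 hg
        change (s * DS.Cl.cj A u * (s : RingAut A)⁻¹) ^ r = 1
        rw [conj_pow, k1, E.σ.exp _ hx.2, mul_one, mul_inv_cancel]
      have h9 := conj_pow_inv (E.min.nrm (g' : RingAut A) g3) (fun ν hν => (h7.ge hν).2) r _ hx.2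
      rw [show (g' : RingAut A) * ad f ^ 2 = g from (congrArg Subtype.val e).symm, h8 g g1, h8 g' g2,
        (E.σ.prime.odd_of_ne_two hr).neg_one_pow] at h9
      exact E.eq_one_of_inv hr hx.2 (by simpa using h9))
  have k4 := E.card_B (k := 1) hN
  refine N2.good_of_cc (a := Cyc.el hu) (show DS.Cl.cj A u ∈ H from k1 ▸ E.le hx.2) (k2.trans h6) le_rfl ?_
  rw [← Cyc.card_sub] at k4
  refine Nat.le_of_mul_le_mul_left ?_ (show 0 < 8 by norm_num)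
  calc 8 * ((Nat.card ι + 1) ^ r * N2.cc (H.subgroupOf F.S) (Cyc.el hu)) ^ 3
      = ((Nat.card ι + 1) ^ r) ^ 3 * (2 * N2.cc (H.subgroupOf F.S) (Cyc.el hu)) ^ 3 := by ring
    _ ≤ ((Nat.card ι + 1) ^ r) ^ 3 * Nat.card (H.subgroupOf F.S) ^ 3 := Nat.mul_le_mul_left _ (Nat.pow_le_pow_left k3 3)
    _ = ((Nat.card ι + 1) ^ r) ^ 3 * Nat.card (H.subgroupOf F.S) * Nat.card (H.subgroupOf F.S) ^ 2 := by ring
    _ ≤ 8 * Nat.card F.S * Nat.card (H.subgroupOf F.S) ^ 2 :=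
        Nat.mul_le_mul_right _ ((Nat.mul_le_mul_left _ k4).trans h)
    _ = _ := by ring

end XC

end Cfsg.Agent.N2C.Ext
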