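import Cfsg.Agent.N2.Cl.Ext.Odd

/-!
# N2 (S3519), class `pExt`: `r = 2` (helper22)

`tt h a c * d` has order eight and is cyclic on two planes, `oo h i j` has order six on a quaternion plane.
-/

set_option autoImplicit false
set_option linter.unusedSectionVars false

namespace Cfsg.Agent.N2C.Ext

open Cfsg.Agent.DS.Cl Cfsg.Agent.DS.Cl.Fwd Cfsg.Agent.SB.Cl Cfsg.Agent.TH.Cl.Ext

/-- the elements with `γ² ν = ν + γ ν` -/
def Tw {Γ : Type*} [Group Γ] (N : Subgroup Γ) (hc : ∀ x ∈ N, ∀ y ∈ N, x * y = y * x) (γ : Γ)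
    (hn : ∀ ν ∈ N, γ * ν * γ⁻¹ ∈ N) : Subgroup Γ where
  carrier := {ν | ν ∈ N ∧ γ * (γ * ν * γ⁻¹) * γ⁻¹ = ν * (γ * ν * γ⁻¹)}
  mul_mem' := fun {a b} ha hb => ⟨N.mul_mem ha.1 hb.1, by
    rw [← conj_mul (b := γ) (a := a), ← conj_mul (b := γ) (a := γ * a * γ⁻¹), ha.2, hb.2, mul_assoc a, ← mul_assoc _ b, hc _ (hn a ha.1) b hb.1]
    simp only [mul_assoc]⟩
  one_mem' := ⟨N.one_mem, by simp⟩
  inv_mem' := fun {a} ha => ⟨N.inv_mem ha.1, by
    rw [← conj_inv, ← conj_inv, ha.2, hc a ha.1 _ (hn a ha.1), mul_inv_rev]⟩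

variable {A : Type} [Ring A] [StarRing A] [Finite A]

theorem card_le_sq {P Q : A → Prop} {w : A} (h : ∀ x, P x → ∃ p q, Q p ∧ Q q ∧ x = p + q * w) :
    Nat.card {x // P x} ≤ Nat.card {x // Q x} ^ 2 := by
  choose p q h1 h2 h3 using h
  rw [pow_two, ← Nat.card_prod]
  refine Nat.card_le_card_of_injective (fun x => (⟨p x.1 x.2, h1 _ _⟩, ⟨q x.1 x.2, h2 _ _⟩)) fun x y e => Subtype.ext ?_
  rw [h3 x.1 x.2, h3 y.1 y.2, show p x.1 x.2 = p y.1 y.2 from congrArg (fun z => z.1.1) e,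
    show q x.1 x.2 = q y.1 y.2 from congrArg (fun z => z.2.1) e]

/-- the centraliser of `w` is generated by `w` and the centraliser of `w` and `t` -/
theorem dec {h t w w' x : A} (hh : Hf h) (ht : Un t) (h1 : t * t ∈ Subring.center A) (h2 : t * w = -(w * t))
    (h3 : w' * w = 1) (hx : Commute w x) : ∃ p q, (Commute w p ∧ Commute t p) ∧ (Commute w q ∧ Commute t q) ∧
      x = p + q * w ∧ ∀ y, Commute y x → Commute y t → Commute y w → Commute y p ∧ Commute y q := by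
  have a0 : ∀ y, Commute y h := fun y => cen_comm hh.cen y
  have a1 : ∀ {y}, Commute y w → Commute y w' := fun {y} e => by
    rw [Commute, SemiconjBy, ← one_mul (y * w'), ← h3, mul_assoc, ← mul_assoc w, ← e.eq, mul_assoc,
      mul_eq_one_comm.1 h3, mul_one]
  have a2 : ∀ {y}, Commute y t → Commute y (star t) := fun {y} e => ht.cancel (by
    rw [← mul_assoc, ← e.eq, mul_assoc, ht.ms, ← mul_assoc, ht.ms, mul_one, one_mul])
  have a3 : w * star t = -(star t * w) := ht.cancel (by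
    rw [← mul_assoc, h2, neg_mul, mul_assoc, ht.ms, mul_neg, ← mul_assoc, ht.ms, mul_one, one_mul])
  have a4 : Commute w (t * x * star t) := by
    rw [Commute, SemiconjBy, ← mul_assoc, ← mul_assoc, ← neg_neg (w * t), ← h2, neg_mul, neg_mul, mul_assoc t, hx.eq,
      ← mul_assoc, mul_assoc _ w, a3, mul_neg, neg_neg, ← mul_assoc]
  have a5 : t * (t * x * star t) = x * t := by
    rw [← mul_assoc, ← mul_assoc, ← cen_comm h1, mul_assoc, mul_assoc, ht.ms, mul_one]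
  have a6 : t * x * star t * t = t * x := by rw [mul_assoc, ht.sm, mul_one]
  have a7 : t * w' = -(w' * t) := by
    rw [← one_mul (t * w'), ← h3, mul_assoc, ← mul_assoc w, ← neg_neg (w * t), ← h2, neg_mul, mul_assoc,
      mul_eq_one_comm.1 h3, mul_one, mul_neg]
  refine ⟨h * (x + t * x * star t), h * (x - t * x * star t) * w', ⟨(a0 w).mul_right (hx.add_right a4),
    ?_⟩, ⟨((a0 w).mul_right (hx.sub_right a4)).mul_right (a1 (Commute.refl w)), ?_⟩, ?_, fun y b1 b2 b3 => ?_⟩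
  · rw [Commute, SemiconjBy, hh.out, mul_assoc h _ t, mul_add t, add_mul, a5, a6, add_comm]
  · rw [Commute, SemiconjBy, ← mul_assoc, hh.out, mul_assoc _ w', ← neg_neg (w' * t), ← a7, mul_neg,
      ← mul_assoc _ t w', mul_assoc h _ t, mul_sub t, sub_mul, a5, a6, ← neg_mul, ← mul_neg, neg_sub]
  · rw [mul_assoc _ w', h3, mul_one, ← mul_add, add_add_sub_cancel, hh.dbl]
  · have b4 := (b2.mul_right b1).mul_right (a2 b2)
    exact ⟨(a0 y).mul_right (b1.add_right b4), ((a0 y).mul_right (b1.sub_right b4)).mul_right (a1 b3)⟩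

/-- a plane -/
structure Pl (M : Subgroup (RingAut A)) (a b : A) : Prop where
  la : Lf M a
  lb : Lf M b
  aa : a * a = -1
  bb : b * b = 1 ∨ b * b = -1
  ba : b * a = -(a * b)

theorem Pl.ne [Nontrivial A] {M : Subgroup (RingAut A)} {h a b : A} (k : Pl M a b) (hh : Hf h) : a * b ≠ b * a :=
  fun e => (k.la.mul k.lb).1.isUnit.ne_zero (hh.eq_zero (e.trans k.ba))

theorem Pl.mono {M N : Subgroup (RingAut A)} {a b : A} (k : Pl M a b) (h : M ≤ N) : Pl N a b :=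
  ⟨lf_mono h k.la, lf_mono h k.lb, k.aa, k.bb, k.ba⟩

theorem Pl.qz {M : Subgroup (RingAut A)} {a b z : A} (k : Pl M a b) (h : b * b = -1) (h1 : Commute z a)
    (h2 : Commute z b) : Qz M z a b := ⟨k.la, k.lb, k.aa, h, k.ba, h1, h2⟩

theorem Pl.bc {M : Subgroup (RingAut A)} {a b : A} (k : Pl M a b) : b * b ∈ Subring.center A := by
  rcases k.bb with h | h <;> rw [h]
  exacts [Subring.one_mem _, Subring.neg_mem _ (Subring.one_mem _)]

/-- a product of two reflections -/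
def tt (h x y : A) : A := h * ((1 + x) * (1 + y))

section tt

variable {h x y c : A} (hh : Hf h)
include hh

omit hh in
theorem one_add_mul (hx : x * x = -1) : (1 + x) * (1 - x) = 1 + 1 := by
  rw [add_mul, mul_sub, mul_sub, hx]; simp only [mul_one, one_mul]; abel

omit hh in
theorem one_add_sq (hx : x * x = -1) : (1 + x) * (1 + x) = x + x := by
  rw [add_mul, mul_add, mul_add, hx]; simp only [mul_one, one_mul]; abel

theorem half_mul (hx : x * x = -1) : h * (1 - x) * (1 + x) = 1 := by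
  have h1 := one_add_mul (x := -x) (by rw [neg_mul_neg, hx])
  rw [sub_neg_eq_add, ← sub_eq_add_neg] at h1
  rw [mul_assoc, h1, hh.dbl]

theorem un_tt (hx : Un x) (hy : Un y) (xx : x * x = -1) (yy : y * y = -1) : Un (tt h x y) := by
  rw [Un, tt, star_mul, star_mul, hh.st, star_add, star_add, star_one, star_of_sq hx xx, star_of_sq hy yy,
    cen_comm hh.cen, mul_assoc, hh.out, mul_assoc, ← mul_assoc (1 + y), ← sub_eq_add_neg, ← sub_eq_add_neg,
    one_add_mul yy, add_mul 1 1, one_mul, mul_add (1 + x) (1 - x), hh.dbl, one_add_mul xx, hh.dbl]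

theorem tt_mul (cc : c * c = -1) (x y : A) : tt h x c * tt h c y = h * ((1 + x) * (c * (1 + y))) := by
  rw [tt, tt, mul_assoc, hh.out, mul_assoc, ← mul_assoc (1 + c), one_add_sq cc, add_mul c, mul_add (1 + x), hh.dbl]

theorem tt_sq (xx : x * x = -1) (yy : y * y = -1) (e : Commute x y) : tt h x y * tt h x y = x * y := by
  have h1 : (1 + x) * (1 + y) = (1 + y) * (1 + x) := (Commute.one_left _).add_left ((Commute.one_right x).add_right e)
  nth_rw 2 [tt]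
  rw [h1, ← tt, tt_mul hh yy, ← mul_assoc (1 + x), ((Commute.one_left y).add_left e).eq, mul_assoc,
    one_add_sq xx, mul_add, hh.dbl, e.eq]

omit hh in
theorem tt_oo (h x y : A) : tt h x y = oo h x y := by
  rw [tt, oo, add_mul, mul_add 1, mul_add x]
  simp only [mul_one, one_mul]
  congr 1
  abel

end tt

namespace XC

variable {F : FR A} {H N : Subgroup (RingAut A)} {p : ℕ} (E : XC F H N p 2)
include E

theorem exists_hf : ∃ h : A, Hf h := by
  obtain ⟨h, h1, h2⟩ := E.exists_rho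
  exact ⟨h, h1, by simpa using h2⟩

theorem pm {κ : A} (h1 : κ ∈ Subring.center A) (h2 : Un κ) (h3 : κ * κ = 1) : κ = 1 ∨ κ = -1 :=
  or_iff_not_imp_left.2 (SB.C2.sq_eq_neg E.σ.ss h1 h2 h3)

theorem ca {u v : A} (hu : Lf N u) (hv : Lf N v) : u * v = v * u ∨ u * v = -(v * u) := by
  obtain ⟨κ, h1, h2, h3, h4⟩ := E.σ.exists_kap hu hv
  rcases E.pm h1 h2 ((pow_two κ).symm.trans h3) with rfl | rfl
  · exact Or.inl (by rw [h4, one_mul])
  · exact Or.inr (by rw [h4, neg_one_mul])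

theorem nm_tau {w : A} (hw : Lf N w) (h : w * w = -1) : Nm N (1 + w) := fun u hu => by
  rcases E.ca hw hu with e | e
  · exact ⟨u, hu, by rw [add_mul, mul_add, e, one_mul, mul_one]⟩
  · exact ⟨w * u, hw.mul hu, by
      rw [add_mul, mul_add, one_mul, mul_one, add_comm, mul_assoc, ← neg_neg (u * w), ← neg_eq_iff_eq_neg.2 e, neg_neg,
        mul_neg, ← mul_assoc, h, neg_one_mul, neg_neg]⟩

open DS.Cl.Ext in
theorem norm {u : A} (hu : Lf N u) : ∃ v, Un v ∧ ad v = ad u ∧ (v * v = 1 ∨ v * v = -1) := by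
  have h0 : ∀ c ∈ Subring.center A, Un c → Un (c * u) ∧ ad (c * u) = ad u := fun c h1 h2 =>
    ⟨h2.mul hu.1, by rw [ad_mul h2 hu.1, ad_cen h1, one_mul]⟩
  rcases E.root with h | ⟨-, h⟩
  · obtain ⟨c, h1, h2, h3⟩ := h u hu
    exact ⟨_, (h0 c h1 h2).1, (h0 c h1 h2).2, Or.inl ((pow_two _).symm.trans h3)⟩
  · have h1 := E.σ.pow_cen hu
    have h2 := hu.pow 2
    let c : Uh F N := ⟨⟨mkU _ h2.1, by
      change DS.Cl.cj A _ ∈ N
      rw [← ad_val]
      exact h2.2, E.σ.mem_Iso h2.1⟩, h1⟩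
    have h3 : (u ^ 2) ^ Nat.card (Uh F N) = 1 :=
      congrArg (fun x : Uh F N => (((x : Nh F N) : Aˣ) : A)) (pow_card_eq_one' (x := c))
    obtain ⟨j, hj⟩ : ∃ j, Nat.card (Uh F N) ∣ (2 * j + 1) * 2 := by
      generalize Nat.card (Uh F N) = n at h
      rcases Nat.even_or_odd' n with ⟨k, rfl | rfl⟩
      · exact ⟨k / 2, Dvd.intro 1 (by omega)⟩
      · exact ⟨k, dvd_mul_right _ _⟩
    have h4 : (u ^ 2) ^ j * u * ((u ^ 2) ^ j * u) = (u ^ 2) ^ (2 * j + 1) := by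
      simp only [← pow_mul, ← pow_succ, ← pow_add]
      congr 1
      omega
    refine ⟨_, (h0 _ (Subring.pow_mem _ h1 j) (h2.1.pow j)).1, (h0 _ (Subring.pow_mem _ h1 j) (h2.1.pow j)).2, ?_⟩
    rw [h4]
    exact E.pm (Subring.pow_mem _ h1 _) (h2.1.pow _) (by
      obtain ⟨k, hk⟩ := hj
      rw [← pow_two, ← pow_mul, hk, pow_mul, h3, one_pow])

variable {M : Subgroup (RingAut A)}

theorem exists_pl (hM : Nd N M) (h : M ≠ ⊥) : ∃ a b, Pl M a b := by
  obtain ⟨u₀, v₀, hu₀, hv₀, h0⟩ := E.exists_pair hM h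
  obtain ⟨u, u1, u2, u3⟩ := E.norm (lf_mono hM.le hu₀)
  obtain ⟨v, v1, v2, v3⟩ := E.norm (lf_mono hM.le hv₀)
  have hu : Lf M u := ⟨u1, u2 ▸ hu₀.2⟩
  have hv : Lf M v := ⟨v1, v2 ▸ hv₀.2⟩
  have h1 : u * v = -(v * u) := (E.ca (lf_mono hM.le hu) (lf_mono hM.le hv)).resolve_left fun e => h0 (by
    rw [← ad_fix hu₀.1, ← u2, ad_fix u1, eq_comm, ← ad_fix hv₀.1, ← v2, ad_fix v1, e])
  rcases u3 with u3 | u3
  · rcases v3 with v3 | v3
    · exact ⟨u * v, v, hu.mul hv, hv, by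
        rw [mul_assoc, ← mul_assoc v, ← neg_neg (v * u), ← h1, neg_mul, mul_assoc, v3, mul_one, mul_neg, u3],
        Or.inl v3, by rw [← mul_assoc, ← neg_neg (v * u), ← h1, neg_mul]⟩
    · exact ⟨v, u, hv, hu, v3, Or.inl u3, h1⟩
  · exact ⟨u, v, hu, hv, u3, v3, by rw [h1, neg_neg]⟩

theorem pp_ne (hM : M ≤ N) {a b : A} (k : Pl M a b) (h : 4 < Nat.card M) : pp M a b ≠ ⊥ := fun e => by
  obtain ⟨h', hh⟩ := E.exists_hf
  have := E.σ.ss.nontrivial
  have := E.le_card_pp hM k.la k.lb (k.ne hh)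
  rw [e, Subgroup.card_bot] at this
  omega

theorem exists_q (hM : Nd N M) (h : 4 < Nat.card M) : ∃ a b, Pl M a b ∧ b * b = -1 := by
  obtain ⟨h', hh⟩ := E.exists_hf
  have := E.σ.ss.nontrivial
  obtain ⟨a, b, k⟩ := E.exists_pl hM fun e => by simp [e] at h
  rcases k.bb with h1 | h1
  · obtain ⟨c, d, k'⟩ := E.exists_pl (E.nd_pp hM k.la k.lb (k.ne hh)) (E.pp_ne hM.le k h)
    obtain ⟨c1, c2, c3⟩ := lf_pp.1 k'.la
    have h2 : b * c * (b * c) = -1 := by rw [mul_assoc, ← mul_assoc c, c3, mul_assoc, k'.aa, ← mul_assoc, h1, one_mul]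
    exact ⟨a, b * c, ⟨k.la, k.lb.mul c1, k.aa, Or.inr h2, by
      rw [mul_assoc, c2, ← mul_assoc, k.ba, neg_mul, mul_assoc]⟩, h2⟩
  · exact ⟨a, b, k, h1⟩

variable {h : A} (hh : Hf h)
include hh

theorem nm_tt {x y : A} (hx : Lf N x) (hy : Lf N y) (xx : x * x = -1) (yy : y * y = -1) :
    ∀ ν ∈ N, ad (tt h x y) * ν * (ad (tt h x y))⁻¹ ∈ N :=
  E.σ.norm_of_nm (un_tt hh hx.1 hy.1 xx yy) ((Nm.cen hh.cen).mul ((E.nm_tau hx xx).mul (E.nm_tau hy yy)))

theorem oo_S {c x y : A} (hc : Lf N c) (cc : c * c = -1) (q : Qz N c x y) : ad (oo h x y) ∈ F.S := by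
  have h1 : ∀ {x y}, Lf N x → Lf N y → x * x = -1 → y * y = -1 → Commute x y → ad (tt h x y) ^ 2 ∈ F.S :=
    fun hx hy xx yy e => by
      rw [← ad_pow (un_tt hh hx.1 hy.1 xx yy), pow_two, tt_sq hh xx yy e]
      exact E.σ.le (hx.mul hy).2
  have h2 := un_tt hh q.la.1 hc.1 q.aa cc
  have h3 := un_tt hh hc.1 q.lb.1 cc q.bb
  have h4 := E.ps_mul (h2.mul h3) hc.1.st (E.ps_mul h2 h3 (h1 q.la hc q.aa cc q.za.symm) (h1 hc q.lb cc q.bb q.zb))
    (F.S.pow_mem (E.σ.le hc.st.2) 2)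
  rw [tt_mul hh cc, ((Commute.one_right c).add_right q.zb).eq, ← mul_assoc (1 + x), ← mul_assoc, ← tt, mul_assoc,
    hc.1.ms, mul_one, tt_oo] at h4
  refine mem_of_coprime (a := 2) (b := 3) (by norm_num) h4 ?_
  rw [← ad_pow (q.un_oo hh), pow_three, q.oo_cube hh, ad_neg Un.one, ad_one]
  exact F.S.one_mem

theorem tt_S {a b c d j : A} (k : Pl N a b) (k' : Pl N c d) (hj : Lf N j) (jj : j * j = -1) 
    (h2 : Commute a d) (h3 : Commute b c) (h4 : Commute b d) (j1 : Commute j a) (j2 : Commute j b) (j3 : Commute j c)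
    (j4 : Commute j d) : ad (tt h a c) ∈ F.S := by
  obtain ⟨e, e1, e2, e3, e4, e5⟩ : ∃ e, Lf N e ∧ e * e = -1 ∧ e * a = -(a * e) ∧ c * e = -(e * c) ∧ Commute j e := by
    have a1 : b * d * a = -(a * (b * d)) := by rw [mul_assoc, ← h2.eq, ← mul_assoc, k.ba, neg_mul, mul_assoc]
    have a2 : c * (b * d) = -(b * d * c) := by rw [← mul_assoc, ← h3.eq, mul_assoc, mul_assoc, k'.ba, mul_neg, neg_neg]
    have a3 : b * d * (b * d) = 1 ∨ b * d * (b * d) = -1 := by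
      rw [← h4.mul_mul_mul_comm]
      rcases k.bb with e | e <;> rcases k'.bb with e' | e' <;> simp [e, e']
    rcases a3 with a3 | a3
    · refine ⟨b * d * j, (k.lb.mul k'.lb).mul hj, ?_, ?_, ?_, (j2.mul_right j4).mul_right (Commute.refl j)⟩
      · rw [← (j2.mul_right j4).symm.mul_mul_mul_comm, a3, jj, one_mul]
      · rw [mul_assoc, j1.eq, ← mul_assoc, a1, neg_mul, mul_assoc]
      · rw [← mul_assoc, a2, neg_mul, mul_assoc, ← j3.eq, ← mul_assoc]
    · exact ⟨b * d, k.lb.mul k'.lb, a3, a1, a2, j2.mul_right j4⟩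
  have q1 : Qz N j a e := ⟨k.la, e1, k.aa, e2, e3, j1, e5⟩
  have q2 : Qz N j e (-c) := ⟨e1, k'.la.neg, e2, by rw [neg_mul_neg, k'.aa], by rw [neg_mul, mul_neg, e4], e5, j3.neg_right⟩
  have h5 := F.S.mul_mem (F.S.mul_mem (E.oo_S hh hj jj q1) (E.oo_S hh hj jj q2)) (E.σ.le e1.st.2)
  rw [← ad_mul (q1.un_oo hh) (q2.un_oo hh), ← ad_mul ((q1.un_oo hh).mul (q2.un_oo hh)) e1.1.st, ← tt_oo, ← tt_oo,
    tt_mul hh e2, show e * (1 + -c) = (1 + c) * e by rw [mul_add, add_mul, mul_neg, e4, mul_one, one_mul],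
    ← mul_assoc (1 + a), ← mul_assoc, ← tt, mul_assoc, e1.1.ms, mul_one] at h5
  exact h5

/-- **the element of order eight**, times an element `o` of order three -/
theorem exists_g {a b c d j o : A} (k : Pl N a b) (k' : Pl N c d) (hj : Lf N j) (jj : j * j = -1) (h1 : Commute a c)
    (h2 : Commute a d) (h3 : Commute b c) (h4 : Commute b d) (j1 : Commute j a) (j2 : Commute j b) (j3 : Commute j c)
    (j4 : Commute j d) (ho : Un o) (o1 : ad o ∈ F.S) (o2 : ∀ ν ∈ N, ad o * ν * (ad o)⁻¹ ∈ N) (o3 : ad o ^ 3 = 1)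
    (oa : Commute o a) (ob : Commute o b) (oc : Commute o c) (od : Commute o d) :
    ∃ g w, Un g ∧ ad g ∈ F.S ∧ (∀ ν ∈ N, ad g * ν * (ad g)⁻¹ ∈ N) ∧ a * g = g * a ∧
      (∃ s, s * g = g * s ∧ star s = s ∧ s * s = 1 + 1) ∧
      (∀ x, x * g = g * x → Commute o x ∧ Commute a x ∧ Commute w x) ∧
      (∀ x, Commute o x ∧ Commute a x ∧ Commute w x → ∃ p q, (Commute o p ∧ Commute a p ∧ Commute b p ∧ Commute w p) ∧
        (Commute o q ∧ Commute a q ∧ Commute b q ∧ Commute w q) ∧ x = p + q * a) ∧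
      ∀ x, Commute o x ∧ Commute a x ∧ Commute b x ∧ Commute w x → ∃ p q,
        (Commute o p ∧ Commute a p ∧ Commute b p ∧ Commute c p ∧ Commute d p) ∧
        (Commute o q ∧ Commute a q ∧ Commute b q ∧ Commute c q ∧ Commute d q) ∧ x = p + q * w := by
  have t1 := un_tt hh k.la.1 k'.la.1 k.aa k'.aa
  have w0 : ∀ {y}, Commute y c → Commute y d → Commute y ((1 + c) * d) := fun e e' =>
    ((Commute.one_right _).add_right e).mul_right e'
  have w1 : (1 + c) * d * ((1 + c) * d) = d * d + d * d := by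
    rw [mul_assoc, ← mul_assoc d, mul_add d, k'.ba, mul_one, ← sub_eq_add_neg, ← one_sub_mul, mul_assoc, ← mul_assoc,
      one_add_mul k'.aa, add_mul, one_mul]
  have w2 : d * d * (d * d) = 1 := by rcases k'.bb with e | e <;> simp [e]
  have w3 : tt h a c * d = h * (1 + a) * ((1 + c) * d) := by rw [tt]; simp only [mul_assoc]
  have w4 : c * ((1 + c) * d) = -((1 + c) * d * c) := by
    rw [← mul_assoc, ((Commute.one_right c).add_right (Commute.refl c)).eq, mul_assoc, mul_assoc, k'.ba, mul_neg, neg_neg]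
  have w5 : ∀ {y}, Commute ((1 + c) * d) y → Commute c y → Commute d y := fun {y} e e' => by
    have e1 := ((Commute.one_left y).sub_left e').mul_left e
    rw [← mul_assoc] at e1
    have e2 := (show Commute h y from (cen_comm hh.cen y).symm).mul_left e1
    rwa [← mul_assoc, ← mul_assoc, half_mul hh k'.aa, one_mul] at e2
  have wa := w0 h1 h2
  have wb := w0 h3 h4
  have wo := w0 oc od
  have u1 := t1.mul k'.lb.1
  have u2 : ad (tt h a c * d) ∈ F.S := by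
    rw [ad_mul t1 k'.lb.1]
    exact F.S.mul_mem (E.tt_S hh k k' hj jj h2 h3 h4 j1 j2 j3 j4) (E.σ.le k'.lb.2)
  have u3 : ∀ ν ∈ N, ad (tt h a c * d) * ν * (ad (tt h a c * d))⁻¹ ∈ N := fun ν hν => by
    rw [ad_mul t1 k'.lb.1]
    simpa only [mul_inv_rev, mul_assoc] using
      E.nm_tt hh k.la k'.la k.aa k'.aa _ (N.mul_mem (N.mul_mem k'.lb.2 hν) (N.inv_mem k'.lb.2))
  rw [w3] at u1 u2 u3
  generalize (1 + c) * d = w at w1 w4 w5 wa wb wo u1 u2 u3
  have c0 : ∀ y, Commute y h := fun y => cen_comm hh.cen y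
  have c1 : ∀ {y}, Commute y a → Commute y w → Commute y (h * (1 + a) * w) := fun e e' =>
    ((c0 _).mul_right ((Commute.one_right _).add_right e)).mul_right e'
  have u4 : h * (1 + a) * w * (h * (1 + a) * w) = a * (d * d) := by
    rw [← ((c0 w).mul_right ((Commute.one_right w).add_right wa.symm)).symm.mul_mul_mul_comm, w1, cen_mul_mul hh.cen,
      one_add_sq k.aa, mul_assoc h, hh.dbl, mul_assoc,
      mul_add, hh.dbl]
  have u5 : ∀ {y}, Commute a y → Commute (h * (1 + a) * w) y → Commute w y := fun {y} e e' => by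
    have e2 := ((Commute.one_left y).sub_left e).mul_left e'
    rwa [← mul_assoc, ← mul_assoc, (c0 _).eq, half_mul hh k.aa, one_mul] at e2
  have uo := c1 oa wo
  have ua := c1 (Commute.refl a) wa
  generalize h * (1 + a) * w = u at u1 u2 u3 u4 u5 uo ua
  have u6 : ad u ^ 2 = ad a := by
    rw [← ad_pow u1, pow_two, u4, ad_mul k.la.1 (k'.lb.1.mul k'.lb.1), ad_cen k'.bc, mul_one]
  have u7 : Commute (ad o) (ad u) := by rw [Commute, SemiconjBy, ← ad_mul ho u1, uo.eq, ad_mul u1 ho]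
  have u8 : Commute (star u) u := u1.sm.trans u1.ms.symm
  refine ⟨o * u, w, ho.mul u1, ?_, fun ν hν => ?_, oa.symm.mul_right ua, ⟨u + star u, ?_, by rw [star_add, star_star, add_comm], ?_⟩,
    fun x hx => ?_, fun x hx => ?_, fun x hx => ?_⟩
  · rw [ad_mul ho u1]
    exact F.S.mul_mem o1 u2
  · rw [ad_mul ho u1]
    simpa only [mul_inv_rev, mul_assoc] using o2 _ (u3 ν hν)
  · exact (uo.symm.mul_right (Commute.refl u)).add_left
      ((show Commute (star u) o from u1.cancel (by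
        rw [← mul_assoc, u1.ms, ← mul_assoc, ← uo.eq, mul_assoc, u1.ms, mul_one, one_mul])).mul_right u8)
  · rw [add_mul, mul_add, mul_add, u1.ms, u1.sm, ← star_mul, u4, star_mul, star_of_sq k.la.1 k.aa,
      show star (d * d) = d * d by rcases k'.bb with e | e <;> simp [e], mul_neg, cen_comm k'.bc]
    abel
  · have x1 : ad o * ad u ∈ St x := by
      rw [← ad_mul ho u1]
      exact (ad_mem_St (ho.mul u1)).2 hx.symm
    have x2 : ad u ∈ St x := mem_of_coprime (a := 3) (b := 4) (by norm_num)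
      (by simpa only [u7.mul_pow, o3, one_mul] using Subgroup.pow_mem _ x1 3)
      (by rw [show 4 = 2 * 2 from rfl, pow_mul, u6, E.σ.exp _ k.la.2]; exact Subgroup.one_mem _)
    have x3 : Commute a x := (ad_mem_St k.la.1).1 (u6 ▸ Subgroup.pow_mem _ x2 2)
    exact ⟨(ad_mem_St ho).1 ((Subgroup.mul_mem_cancel_right _ x2).1 x1), x3, u5 x3 ((ad_mem_St u1).1 x2)⟩
  · obtain ⟨p, q, p1, q1, e, h5⟩ := dec hh k.lb.1 k.bc k.ba k.la.1.sm hx.2.1
    have h6 := h5 o hx.1 ob oa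
    have h7 := h5 w hx.2.2 wb.symm wa.symm
    exact ⟨p, q, ⟨h6.1, p1.1, p1.2, h7.1⟩, ⟨h6.2, q1.1, q1.2, h7.2⟩, e⟩
  · obtain ⟨p, q, p1, q1, e, h5⟩ := dec hh k'.la.1 (k'.aa ▸ Subring.neg_mem _ (Subring.one_mem _)) w4
      (w' := h * (d * d * w)) (by rw [mul_assoc, mul_assoc, w1, mul_add, w2, hh.dbl]) hx.2.2.2
    have h6 := h5 o hx.1 oc wo
    have h7 := h5 a hx.2.1 h1 wa
    have h8 := h5 b hx.2.2.1 h3 wb
    exact ⟨p, q, ⟨h6.1, h7.1, h8.1, p1.2, w5 p1.1 p1.2⟩, ⟨h6.2, h7.2, h8.2, q1.2, w5 q1.1 q1.2⟩, e⟩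

theorem comm_oo {i j x : A} (q : Pl N i j) (jj : j * j = -1) (h1 : Commute x i) (h2 : Commute x j) :
    Commute (oo h i j) x := ((q.qz jj h1 h2).z_oo hh).symm

omit hh in
theorem supp {a b c d x : A} (k : Pl N a b) (k' : Pl N c d) (h1 : Commute a x) (h2 : Commute b x) (h3 : Commute c x)
    (h4 : Commute d x) : ∀ ν ∈ N, ν ∉ pp (pp N a b) c d → ∃ y, Lf N y ∧ ν y ≠ y ∧ y * x = x * y := fun ν hν h0 => by
  by_contra h5
  push Not at h5
  exact h0 ⟨⟨⟨⟨hν, not_not.1 fun e => h5 a k.la e h1⟩, not_not.1 fun e => h5 b k.lb e h2⟩,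
    not_not.1 fun e => h5 c k'.la e h3⟩, not_not.1 fun e => h5 d k'.lb e h4⟩

omit hh in
/-- **four planes** -/
theorem two_big (hN : 64 < Nat.card N) : ∃ g t, Un g ∧ ad g ∈ F.S ∧ (∀ ν ∈ N, ad g * ν * (ad g)⁻¹ ∈ N) ∧
    Cyc.cU g ≤ Nat.card (Subring.center A) ^ t ∧ 32 * t ≤ 3 * Nat.card N := by
  have := Cyc.finAut (A := A)
  have := E.σ.ss.nontrivial
  obtain ⟨h, hh⟩ := E.exists_hf
  obtain ⟨i, j, q, jj⟩ := E.exists_q E.nd_top (by omega)
  have n1 := E.nd_pp E.nd_top q.la q.lb (q.ne hh)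
  have l1 := E.le_card_pp le_rfl q.la q.lb (q.ne hh)
  obtain ⟨i', j', q', jj'⟩ := E.exists_q n1 (by omega)
  have n2 := E.nd_pp n1 q'.la q'.lb (q'.ne hh)
  have l2 := E.le_card_pp n1.le q'.la q'.lb (q'.ne hh)
  obtain ⟨a, b, k⟩ := E.exists_pl n2 (E.pp_ne n1.le q' (by omega))
  obtain ⟨c, d, k'⟩ := E.exists_pl (E.nd_pp n2 k.la k.lb (k.ne hh)) (E.pp_ne n2.le k (by omega))
  obtain ⟨-, i1, i2⟩ := lf_pp.1 q'.la
  obtain ⟨-, j1, j2⟩ := lf_pp.1 q'.lb
  have e : ∀ {x}, Lf (pp (pp N i j) i' j') x → Commute x i ∧ Commute x j ∧ Commute x i' ∧ Commute x j' := fun hx =>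
    ⟨(lf_pp.1 (lf_pp.1 hx).1).2.1, (lf_pp.1 (lf_pp.1 hx).1).2.2, (lf_pp.1 hx).2.1, (lf_pp.1 hx).2.2⟩
  obtain ⟨c0, c1, c2⟩ := lf_pp.1 k'.la
  obtain ⟨d0, d1, d2⟩ := lf_pp.1 k'.lb
  have ea := e k.la
  have eb := e k.lb
  have ec := e c0
  have ed := e d0
  have r := q'.mono n1.le
  have s := k.mono n2.le
  have s' := k'.mono (pp_le.trans n2.le)
  have z := q.qz jj i1 i2
  have z' := r.qz jj' (show Commute i i' from i1.symm) (show Commute i j' from j1.symm)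
  have o1 := z.un_oo hh
  have o2 := z'.un_oo hh
  have o3 : ∀ {x}, Commute x i ∧ Commute x j ∧ Commute x i' ∧ Commute x j' → Commute (oo h i j * oo h i' j') x :=
    fun hx => (E.comm_oo hh q jj hx.1 hx.2.1).mul_left (E.comm_oo hh r jj' hx.2.2.1 hx.2.2.2)
  have o4 : Commute (oo h i j) i' := E.comm_oo hh q jj i1 i2
  have o5 : Commute (oo h i j) j' := E.comm_oo hh q jj j1 j2
  have o6 : Commute (oo h i' j') i := E.comm_oo hh r jj' i1.symm j1.symm
  have o7 : Commute (oo h i' j') j := E.comm_oo hh r jj' i2.symm j2.symm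
  have o8 : Commute (oo h i' j') (oo h i j) := E.comm_oo hh r jj' o4 o5
  have o9 : ∀ ν ∈ N, ad (oo h i j * oo h i' j') * ν * (ad (oo h i j * oo h i' j'))⁻¹ ∈ N := fun ν hν => by
    rw [ad_mul o1 o2, ← tt_oo, ← tt_oo]
    simpa only [mul_inv_rev, mul_assoc] using E.nm_tt hh q.la q.lb q.aa jj _ (E.nm_tt hh r.la r.lb r.aa jj' ν hν)
  have o10 : ad (oo h i j * oo h i' j') ^ 3 = 1 := by
    rw [← ad_pow (o1.mul o2), o8.symm.mul_pow, pow_three, pow_three, z.oo_cube hh, z'.oo_cube hh, neg_mul_neg, one_mul,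
      ad_one]
  have o11 : ad (oo h i j * oo h i' j') ∈ F.S := by
    rw [ad_mul o1 o2]
    exact F.S.mul_mem (E.oo_S hh r.la r.aa z) (E.oo_S hh q.la q.aa z')
  have o12 : ∀ {x y}, Qz N 1 x y → oo h i j * oo h i' j' * x = y * (oo h i j * oo h i' j') →
      oo h i j * oo h i' j' * y = x * y * (oo h i j * oo h i' j') →
      ad x ∈ Tw N E.σ.comm _ o9 ∧ ad y ∈ Tw N E.σ.comm _ o9 := fun {x y} t e1 e2 => by
    have f : ∀ {x y}, Un x → oo h i j * oo h i' j' * x = y * (oo h i j * oo h i' j') →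
        ad (oo h i j * oo h i' j') * ad x * (ad (oo h i j * oo h i' j'))⁻¹ = ad y := fun hx e => by
      rw [conj_ad _ hx, ad_apply (o1.mul o2), e, mul_assoc, (o1.mul o2).ms, mul_one]
    have f1 := f t.la.1 e1
    have f2 := f t.lb.1 e2
    refine ⟨⟨t.la.2, by rw [f1, f2, ad_mul t.la.1 t.lb.1]⟩, t.lb.2, ?_⟩
    rw [f2, ad_mul t.la.1 t.lb.1, ← conj_mul, f1, f2, ad_mul t.la.1 t.lb.1]
  have o13 := o12 (z.of (Commute.one_left _) (Commute.one_left _))
    (by rw [mul_assoc, o6.eq, ← mul_assoc, z.oo_a hh, mul_assoc])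
    (by rw [mul_assoc, o7.eq, ← mul_assoc, z.oo_b hh, mul_assoc])
  have o14 := o12 (z'.of (Commute.one_left _) (Commute.one_left _))
    (by rw [mul_assoc, z'.oo_a hh, ← mul_assoc, o5.eq, mul_assoc])
    (by rw [mul_assoc, z'.oo_b hh, ← mul_assoc, (o4.mul_right o5).eq, mul_assoc])
  have o0 := o1.mul o2
  generalize oo h i j * oo h i' j' = o at o0 o3 o9 o10 o11 o13 o14
  obtain ⟨g, w, g1, g2, g3, -, -, g4, g5, g6⟩ := E.exists_g hh s s' q.lb jj c1.symm d1.symm c2.symm d2.symm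
    ea.2.1.symm eb.2.1.symm ec.2.1.symm ed.2.1.symm o0 o11 o9 o10 (o3 ea) (o3 eb) (o3 ec) (o3 ed)
  have m : ∀ {x ν}, Lf N x → Commute o x → ν ∈ N → ν ∈ St x → ad o * ν * (ad o)⁻¹ ∈ St x := fun hx e h1 h2 =>
    (E.conj_ap (E.σ.mem_PI o0) h1 hx (by rw [← ad_mul o0 hx.1, e.eq, ad_mul hx.1 o0])).trans h2
  obtain ⟨t, t1, t2⟩ := fx_K E.σ o0 (K := pp (pp N a b) c d) (pp_le.trans pp_le) o9
    (fun ν hν => ⟨⟨⟨⟨o9 ν hν.1.1.1.1, m s.la (o3 ea) hν.1.1.1.1 hν.1.1.1.2⟩, m s.lb (o3 eb) hν.1.1.1.1 hν.1.1.2⟩,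
      m s'.la (o3 ec) hν.1.1.1.1 hν.1.2⟩, m s'.lb (o3 ed) hν.1.1.1.1 hν.2⟩) (by norm_num) o10
    (fun x => Commute o x ∧ Commute a x ∧ Commute b x ∧ Commute c x ∧ Commute d x)
    (fun x y hx hy => ⟨hx.1.sub_right hy.1, hx.2.1.sub_right hy.2.1, hx.2.2.1.sub_right hy.2.2.1,
      hx.2.2.2.1.sub_right hy.2.2.2.1, hx.2.2.2.2.sub_right hy.2.2.2.2⟩) (fun x hx => hx.1) fun ν hν h0 => by
      by_contra h5
      push Not at h5
      have h6 : ∀ y, Lf N y → (∀ x, Commute o x ∧ Commute a x ∧ Commute b x ∧ Commute c x ∧ Commute d x → Commute y x) →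
          ν ∈ St y := fun y hy e => not_not.1 fun e' => by
        obtain ⟨x, x1, x2⟩ := h5 y hy e'
        exact x2 (e x x1)
      exact h0 ⟨⟨⟨⟨hν, h6 a s.la fun _ e => e.2.1⟩, h6 b s.lb fun _ e => e.2.2.1⟩, h6 c s'.la fun _ e => e.2.2.2.1⟩,
        h6 d s'.lb fun _ e => e.2.2.2.2⟩
  refine ⟨g, t * 2 * 2, g1, g2, g3, (cU_le_card _ g4).trans ((card_le_sq g5).trans ?_), ?_⟩
  · rw [pow_mul, pow_mul]
    exact Nat.pow_le_pow_left ((card_le_sq g6).trans (Nat.pow_le_pow_left t1 2)) 2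
  have m1 : ∀ {x}, Lf N x → Commute a x → Commute b x → Commute c x → Commute d x → ad x ∈ Tw N E.σ.comm _ o9 →
      Lf (Tw N E.σ.comm _ o9 ⊓ pp (pp N a b) c d) x := fun hx e1 e2 e3 e4 e5 =>
    ⟨hx.1, e5, (lf_pp.2 ⟨lf_pp.2 ⟨hx, e1.symm, e2.symm⟩, e3.symm, e4.symm⟩).2⟩
  have m2 : Tw N E.σ.comm _ o9 ⊓ pp (pp N a b) c d ≤ N := fun _ h => h.1.1
  have m3 := E.card_pp m2 (m1 q.la ea.1 eb.1 ec.1 ed.1 o13.1) (m1 q.lb ea.2.1 eb.2.1 ec.2.1 ed.2.1 o13.2) (q.ne hh)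
  have m4 := E.card_pp (pp_le.trans m2)
    (lf_pp.2 ⟨m1 r.la ea.2.2.1 eb.2.2.1 ec.2.2.1 ed.2.2.1 o14.1, i1, i2⟩)
    (lf_pp.2 ⟨m1 r.lb ea.2.2.2 eb.2.2.2 ec.2.2.2 ed.2.2.2 o14.2, j1, j2⟩) (r.ne hh)
  have m5 : 0 < Nat.card (pp (pp (Tw N E.σ.comm _ o9 ⊓ pp (pp N a b) c d) i j) i' j') := Nat.card_pos
  have m7 : 16 ≤ Nat.card ↥(Tw N E.σ.comm _ o9 ⊓ pp (pp N a b) c d) := by omega
  have m6 : ∀ k, ad o ∈ Subgroup.zpowers (ad o ^ k) →
      Nat.card (cN (pp (pp N a b) c d) (ad o ^ k)) * 16 ≤ Nat.card (pp (pp N a b) c d) := fun k hk =>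
    (Nat.mul_le_mul_left _ m7).trans (card_mul_le_of_disj (W := Tw N E.σ.comm _ o9 ⊓ pp (pp N a b) c d)
      inf_le_left inf_le_right fun ν a1 a2 => by
        obtain ⟨l, hl⟩ := hk
        have a3 : ad o * ν * (ad o)⁻¹ = ν := by
          rw [← hl, ((show Commute (ad o ^ k) ν from (mem_cN.1 a2).2).zpow_left l).eq, mul_inv_cancel_right]
        have a4 := a1.1.2
        rwa [a3, a3, left_eq_mul] at a4)
  have k1 := m6 1 (by rw [pow_one]; exact Subgroup.mem_zpowers _)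
  have k2 := m6 2 (Subgroup.mem_zpowers_iff.2 ⟨2, by
    rw [zpow_ofNat, ← pow_mul, show 2 * 2 = 3 + 1 from rfl, pow_succ, o10, one_mul]⟩)
  have k3 : Nat.card (cN (pp (pp N a b) c d) (ad o ^ 0)) ≤ Nat.card (pp (pp N a b) c d) :=
    Subgroup.card_le_of_le inf_le_left
  have k4 := E.card_pp le_rfl s.la s.lb (s.ne hh)
  have k5 := E.card_pp (M := pp N a b) pp_le (lf_pp.2 ⟨s'.la, c1, c2⟩) (lf_pp.2 ⟨s'.lb, d1, d2⟩) (s'.ne hh)
  simp only [Finset.sum_range_succ, Finset.range_zero, Finset.sum_empty] at t2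
  omega

end XC

end Cfsg.Agent.N2C.Ext
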